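import Cfsg.Agent.Lib.Classical.FieldExtMax.Main
import Cfsg.Agent.Lib.Classical.SubfieldOrth.QuadFrame
import Cfsg.Agent.Lib.Classical.OrthMaxTS
import Cfsg.Agent.Lib.Classical.OrthMaxND

/-!
# Orthogonal groups over an extension field inside orthogonal groups: vectors over the extension
-/

set_option autoImplicit false
set_option linter.unusedSectionVars false

namespace CfsgLib.Classical.FieldExtOrth

open Module QuadraticMap CfsgLib.Orth CfsgLib.Classical CfsgLib.Classical.FieldExtMax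

variable {F K V : Type*} [Field F] [Field K] [Algebra F K] [AddCommGroup V] [Module F V] [Module K V]
  [IsScalarTower F K V] [FiniteDimensional F K] [FiniteDimensional K V] [FiniteDimensional F V]
  {Q : QuadraticForm F V} {φ : V →ₗ[K] V →ₗ[K] K} {f₀ : K →ₗ[F] F} {M : Subgroup (orthGroup Q)}

/-- The polar form of `Q` is the composition of a functional with a symmetric form over `K`, and `M`
contains the root elements of that form. -/
structure Setting (Q : QuadraticForm F V) (φ : V →ₗ[K] V →ₗ[K] K) (f₀ : K →ₗ[F] F)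
    (M : Subgroup (orthGroup Q)) : Prop where
  two : (2 : F) ≠ 0
  symm : ∀ x y, φ x y = φ y x
  nondeg : ∀ x, (∀ y, φ x y = 0) → x = 0
  ne_zero : f₀ ≠ 0
  eq : ∀ x y, polar Q x y = f₀ (φ x y)
  dim : 4 ≤ finrank K V
  root : ∀ d u, φ d d = 0 → φ d u = 0 →
    ∃ e ∈ M, ∀ x, e.1 x = x + φ d x • u + (-(φ u x) - (2 : K)⁻¹ * φ u u * φ d x) • d

variable (h : Setting Q φ f₀ M)

theorem exists_scalar (hf₀ : f₀ ≠ 0) (l : K) (hl : l ≠ 0) (c : F) : ∃ k : K, f₀ (k * l) = c := by
  obtain ⟨k, hk⟩ := DFunLike.ne_iff.1 hf₀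
  rw [LinearMap.zero_apply] at hk
  refine ⟨(c * (f₀ k)⁻¹) • k * l⁻¹, ?_⟩
  rw [mul_assoc, inv_mul_cancel₀ hl, mul_one, map_smul, smul_eq_mul, mul_assoc, inv_mul_cancel₀ hk, mul_one]

/-- A scalar pairing to zero with a subspace and to one with an element outside it. -/
theorem exists_scalar_perp (hf₀ : f₀ ≠ 0) {S : Submodule F K} {x : K} (hx : x ∉ S) :
    ∃ e : K, (∀ s ∈ S, f₀ (e * s) = 0) ∧ f₀ (e * x) = 1 := by
  obtain ⟨χ, hχx, hχS⟩ := Submodule.exists_dual_map_eq_bot_of_notMem hx inferInstance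
  let T : K →ₗ[F] (K →ₗ[F] F) := (LinearMap.mul F K).compr₂ f₀
  have hTi : Function.Injective T := by
    refine (injective_iff_map_eq_zero T).2 fun e he => by_contra fun h0 => ?_
    obtain ⟨k, hk⟩ := exists_scalar hf₀ e h0 (1 : F)
    have h1 : f₀ (e * k) = 0 := LinearMap.congr_fun he k
    rw [mul_comm, hk] at h1
    exact one_ne_zero h1
  have hTs : Function.Surjective T := by
    refine (LinearMap.injective_iff_surjective_of_finrank_eq_finrank ?_).1 hTi
    exact Subspace.dual_finrank_eq.symm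
  obtain ⟨e, he⟩ := hTs ((χ x)⁻¹ • χ)
  refine ⟨e, fun s hs => ?_, ?_⟩
  · have h2 : χ s ∈ S.map χ := ⟨s, hs, rfl⟩
    rw [hχS, Submodule.mem_bot] at h2
    have h1 : f₀ (e * s) = (χ x)⁻¹ * χ s := LinearMap.congr_fun he s
    rw [h1, h2, mul_zero]
  · have h1 : f₀ (e * x) = (χ x)⁻¹ * χ x := LinearMap.congr_fun he x
    rw [h1, inv_mul_cancel₀ hχx]

include h

theorem Setting.twoK : (2 : K) ≠ 0 := fun e => h.two ((algebraMap F K).injective (by rw [map_ofNat, map_zero]; exact e))

theorem Setting.quad_eq (x : V) : Q x = 2⁻¹ * f₀ (φ x x) := by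
  rw [← h.eq, polar_self', ← mul_assoc, inv_mul_cancel₀ h.two, one_mul]

theorem Setting.quad_zero {x : V} (hx : φ x x = 0) : Q x = 0 := by rw [h.quad_eq, hx, map_zero, mul_zero]

theorem Setting.polar_smul_smul (x y : V) (k l : K) : polar Q (k • x) (l • y) = f₀ (k * l * φ x y) := by
  rw [h.eq]; simp [mul_assoc, mul_left_comm]

theorem Setting.polar_smul_left (x y : V) (k : K) : polar Q (k • x) y = f₀ (k * φ x y) := by
  rw [h.eq]; simp

theorem Setting.polar_smul_right (x y : V) (k : K) : polar Q x (k • y) = f₀ (k * φ x y) := by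
  rw [h.eq]; simp

theorem Setting.phi_eq_zero {x y : V} (hxy : ∀ k : K, polar Q x (k • y) = 0) : φ x y = 0 := by
  by_contra hne
  obtain ⟨k, hk⟩ := exists_scalar h.ne_zero _ hne (1 : F)
  have := hxy k
  rw [h.polar_smul_right, hk] at this
  exact one_ne_zero this

theorem Setting.nondegQ : (QuadraticMap.polarBilin Q).Nondegenerate :=
  nondegenerate_of_left (Q := Q) fun x hx => h.nondeg x fun y => h.phi_eq_zero fun k => hx _

/-- A vector pairing to zero with a subspace and to one with a vector outside it. -/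
theorem Setting.exists_vec {S : Submodule K V} {v : V} (hv : v ∉ S) :
    ∃ c, (∀ s ∈ S, φ c s = 0) ∧ φ c v = 1 := by
  obtain ⟨χ, hχv, hχS⟩ := Submodule.exists_dual_map_eq_bot_of_notMem hv inferInstance
  have hi : Function.Injective φ := (injective_iff_map_eq_zero φ).2 fun x hx => h.nondeg x fun y => by simp [hx]
  obtain ⟨c, hc⟩ := (LinearMap.injective_iff_surjective_of_finrank_eq_finrank (f := φ)
    Subspace.dual_finrank_eq.symm).1 hi ((χ v)⁻¹ • χ)
  refine ⟨c, fun s hs => ?_, ?_⟩
  · have h2 : χ s ∈ S.map χ := ⟨s, hs, rfl⟩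
    rw [hχS, Submodule.mem_bot] at h2
    rw [hc, LinearMap.smul_apply, h2, smul_zero]
  · rw [hc, LinearMap.smul_apply, smul_eq_mul, inv_mul_cancel₀ hχv]

theorem Setting.exists_pair {a : V} (ha : φ a a = 0) (ha0 : a ≠ 0) : ∃ b, φ a b = 1 ∧ φ b b = 0 := by
  obtain ⟨c, -, hc⟩ := h.exists_vec (S := (⊥ : Submodule K V)) (v := a) (by simpa using ha0)
  refine ⟨c - (2⁻¹ * φ c c) • a, ?_, ?_⟩
  · simp [h.symm a c, hc, ha]
  · simp only [map_sub, map_smul, LinearMap.sub_apply, LinearMap.smul_apply, smul_eq_mul, ha, hc, h.symm a c]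
    field_simp [h.twoK]
    ring

/-- Every vector orthogonal to a non-singular one is a combination of singular such vectors. -/
theorem Setting.mem_span_singular [Finite F] {z : V} (hz : φ z z ≠ 0) {y : V} (hy : φ z y = 0) :
    y ∈ Submodule.span K {d | φ d d = 0 ∧ φ z d = 0} := by
  haveI : Finite K := Module.finite_of_finite F
  haveI : Fintype K := Fintype.ofFinite K
  set Z := LinearMap.ker (φ z) with hZ
  have hZd : 3 ≤ finrank K Z := by
    have h1 := (φ z).finrank_range_add_finrank_ker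
    have h2 : finrank K (LinearMap.range (φ z)) ≤ 1 := by
      simpa using Submodule.finrank_le (LinearMap.range (φ z))
    have h3 := h.dim
    rw [hZ]
    omega
  obtain ⟨d, hdZ, hd0, hdQ⟩ := SubfieldOrth.exists_singular_sub
    (Q := LinearMap.BilinMap.toQuadraticMap φ) hZd
  have hdd : φ d d = 0 := hdQ
  have hzd : φ z d = 0 := hdZ
  obtain ⟨b, hdb, hbb, hzb⟩ : ∃ b, φ d b = 1 ∧ φ b b = 0 ∧ φ z b = 0 := by
    obtain ⟨c, hc, -⟩ := h.exists_pair hdd hd0
    set c' := c - (φ z c * (φ z z)⁻¹) • z with hc'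
    have h1 : φ d c' = 1 := by simp [hc', hc, h.symm d z, hzd]
    have h2 : φ z c' = 0 := by simp [hc', hz]
    refine ⟨c' - (2⁻¹ * φ c' c') • d, ?_, ?_, ?_⟩
    · simp [h1, hdd]
    · simp only [map_sub, map_smul, LinearMap.sub_apply, LinearMap.smul_apply, smul_eq_mul, hdd, h1, h.symm c' d]
      field_simp [h.twoK]
      ring
    · simp [h2, hzd]
  set w := y - φ b y • d - φ d y • b with hw
  have hwd : φ d w = 0 := by simp [hw, hdd, hdb]
  have hwb : φ b w = 0 := by simp [hw, hbb, h.symm b d, hdb]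
  have hwz : φ z w = 0 := by simp [hw, hy, hzd, hzb]
  set S := Submodule.span K {x : V | φ x x = 0 ∧ φ z x = 0}
  have hdS : d ∈ S := Submodule.subset_span ⟨hdd, hzd⟩
  have hbS : b ∈ S := Submodule.subset_span ⟨hbb, hzb⟩
  have hcomb : d + w - (2⁻¹ * φ w w) • b ∈ S := by
    refine Submodule.subset_span ⟨?_, ?_⟩
    · simp only [map_add, map_sub, map_smul, LinearMap.add_apply, LinearMap.sub_apply, LinearMap.smul_apply,
        smul_eq_mul, hdd, hdb, hbb, hwd, hwb, h.symm w d, h.symm w b, h.symm b d]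
      field_simp [h.twoK]
      ring
    · simp [hzd, hwz, hzb]
  have e : y = (d + w - (2⁻¹ * φ w w) • b) - d + (2⁻¹ * φ w w) • b + φ b y • d + φ d y • b := by
    rw [hw]; abel
  rw [e]
  exact add_mem (add_mem (add_mem (sub_mem hcomb hdS) (S.smul_mem _ hbS)) (S.smul_mem _ hdS)) (S.smul_mem _ hbS)

theorem Setting.exists_singular [Finite F] : ∃ a : V, a ≠ 0 ∧ φ a a = 0 := by
  haveI : Finite K := Module.finite_of_finite F
  haveI : Fintype K := Fintype.ofFinite K
  obtain ⟨a, -, ha0, ha⟩ := SubfieldOrth.exists_singular_sub (Q := LinearMap.BilinMap.toQuadraticMap φ)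
    (U := (⊤ : Submodule K V)) (by rw [finrank_top]; have := h.dim; omega)
  exact ⟨a, ha0, ha⟩

/-- A non-zero subspace on which the form is non-degenerate has a non-singular vector. -/
theorem Setting.exists_aniso {W : Submodule K V} (hW : W ≠ ⊥) (hn : ∀ x ∈ W, x ≠ 0 → ∃ y ∈ W, φ x y ≠ 0) :
    ∃ w ∈ W, φ w w ≠ 0 := by
  by_contra hc
  push Not at hc
  obtain ⟨x, hx, hx0⟩ := Submodule.exists_mem_ne_zero_of_ne_bot hW
  obtain ⟨y, hy, hxy⟩ := hn x hx hx0
  have h1 := hc _ (W.add_mem hx hy)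
  simp only [map_add, LinearMap.add_apply, hc x hx, hc y hy, h.symm y x, zero_add, add_zero, ← two_mul] at h1
  exact hxy ((mul_eq_zero.1 h1).resolve_left h.twoK)

/-- The vectors orthogonal to a hyperbolic pair represent every scalar. -/
theorem Setting.exists_value [Finite F] {s t : V} (hs : φ s s = 0) (ht : φ t t = 0) (hst : φ s t ≠ 0) (c : K) :
    ∃ w, φ s w = 0 ∧ φ t w = 0 ∧ φ w w = c := by
  haveI : Finite K := Module.finite_of_finite F
  haveI : Fintype K := Fintype.ofFinite K
  set a := (φ s t)⁻¹ with ha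
  let π : V → V := fun y => y - (a * φ t y) • s - (a * φ s y) • t
  have hπ : ∀ y, φ s (π y) = 0 ∧ φ t (π y) = 0 := fun y => by
    simp only [π, map_sub, map_smul, smul_eq_mul, hs, ht, h.symm t s, ha]
    constructor <;> field_simp <;> ring
  have hπx : ∀ {x}, φ s x = 0 → φ t x = 0 → ∀ y, φ x (π y) = φ x y := fun {x} h1 h2 y => by
    simp [π, h.symm x s, h.symm x t, h1, h2]
  set W := LinearMap.ker (φ s) ⊓ LinearMap.ker (φ t) with hW
  have hrk : ∀ χ : V →ₗ[K] K, ∀ U : Submodule K V, finrank K U ≤ finrank K (U ⊓ LinearMap.ker χ : Submodule K V) + 1 :=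
    fun χ U => by
      have h1 := (χ.domRestrict U).finrank_range_add_finrank_ker
      have h2 : finrank K (LinearMap.range (χ.domRestrict U)) ≤ 1 := by
        simpa using Submodule.finrank_le (LinearMap.range (χ.domRestrict U))
      have h3 : finrank K (LinearMap.ker (χ.domRestrict U)) ≤ finrank K (U ⊓ LinearMap.ker χ : Submodule K V) := by
        rw [← LinearEquiv.finrank_eq (Submodule.equivMapOfInjective U.subtype U.injective_subtype _).symm]
        refine Submodule.finrank_mono ?_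
        rintro _ ⟨u, hu, rfl⟩
        exact ⟨u.2, hu⟩
      omega
  have hWd : 2 ≤ finrank K W := by
    have h1 := hrk (φ s) ⊤
    have h2 := hrk (φ t) (LinearMap.ker (φ s))
    rw [top_inf_eq, finrank_top] at h1
    have := h.dim
    rw [hW]
    omega
  obtain ⟨w₁, hw₁, hw₁0⟩ : ∃ w ∈ W, φ w w ≠ 0 := by
    refine h.exists_aniso (fun e => by rw [e, finrank_bot] at hWd; omega) fun x hx hx0 => ?_
    by_contra hc
    push Not at hc
    exact hx0 (h.nondeg x fun y => by rw [← hπx hx.1 hx.2 y]; exact hc _ ⟨(hπ y).1, (hπ y).2⟩)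
  obtain ⟨w₂, hw₂, hw₂0⟩ : ∃ w ∈ W ⊓ LinearMap.ker (φ w₁), φ w w ≠ 0 := by
    refine h.exists_aniso (fun e => ?_) fun x hx hx0 => ?_
    · have h1 := hrk (φ w₁) W
      rw [e, finrank_bot] at h1; omega
    · by_contra hc
      push Not at hc
      refine hx0 (h.nondeg x fun y => ?_)
      have h5 := hc (π y - (φ w₁ (π y) * (φ w₁ w₁)⁻¹) • w₁) ⟨W.sub_mem ⟨(hπ y).1, (hπ y).2⟩ (W.smul_mem _ hw₁), by
        show φ w₁ _ = 0
        rw [map_sub, map_smul, smul_eq_mul, mul_assoc, inv_mul_cancel₀ hw₁0, mul_one, sub_self]⟩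
      rw [map_sub, map_smul, h.symm x w₁, show φ w₁ x = 0 from hx.2, smul_zero, sub_zero, hπx hx.1.1 hx.1.2] at h5
      exact h5
  obtain ⟨i, j, hij⟩ := FiniteField.exists_root_sum_quadratic (R := K)
    (f := Polynomial.C (φ w₁ w₁) * Polynomial.X ^ 2 - Polynomial.C c) (g := Polynomial.C (φ w₂ w₂) * Polynomial.X ^ 2)
    (by rw [Polynomial.degree_sub_C (by simp [Polynomial.degree_C_mul_X_pow 2 hw₁0]),
          Polynomial.degree_C_mul_X_pow 2 hw₁0]; norm_num)
    (by rw [Polynomial.degree_C_mul_X_pow 2 hw₂0]; norm_num)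
    (by
      rw [← Nat.card_eq_fintype_card]
      have hodd : ringChar K ≠ 2 := fun e => h.twoK (by
        haveI := ringChar.of_eq e; exact CharTwo.two_eq_zero)
      rw [Nat.card_eq_fintype_card]
      exact FiniteField.odd_card_of_char_ne_two hodd)
  refine ⟨i • w₁ + j • w₂, ?_, ?_, ?_⟩
  · simp [show φ s w₁ = 0 from hw₁.1, show φ s w₂ = 0 from hw₂.1.1]
  · simp [show φ t w₁ = 0 from hw₁.2, show φ t w₂ = 0 from hw₂.1.2]
  · simp only [Polynomial.eval_sub, Polynomial.eval_mul, Polynomial.eval_C, Polynomial.eval_pow,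
      Polynomial.eval_X] at hij
    simp only [map_add, map_smul, LinearMap.add_apply, LinearMap.smul_apply, smul_eq_mul,
      show φ w₁ w₂ = 0 from hw₂.2, h.symm w₂ w₁]
    linear_combination hij

/-- `M` is transitive on the singular vectors. -/
theorem Setting.transitive [Finite F] {s t : V} (hs : φ s s = 0) (ht : φ t t = 0) (hs0 : s ≠ 0) (ht0 : t ≠ 0) :
    ∃ e ∈ M, e.1 s = t ∧ ∀ (k : K) x, e.1 (k • x) = k • e.1 x := by
  have one : ∀ s t : V, φ s s = 0 → φ t t = 0 → φ s t ≠ 0 →
      ∃ e ∈ M, e.1 s = t ∧ ∀ (k : K) x, e.1 (k • x) = k • e.1 x := by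
    intro s t hs ht hst
    obtain ⟨w, hsw, htw, hww⟩ := h.exists_value hs ht hst (-2 * φ s t)
    set y := s + t + w with hy
    have hyy : φ y y = 0 := by
      simp only [hy, map_add, LinearMap.add_apply, hs, ht, hsw, htw, h.symm w s, h.symm w t, hww, h.symm t s]
      ring
    have hys : φ y s = φ s t := by simp [hy, hs, h.symm t s, h.symm w s, hsw]
    have hyt : φ y t = φ s t := by simp [hy, ht, h.symm w t, htw]
    set u := (φ s t)⁻¹ • (t - s) with hu
    have hyu : φ y u = 0 := by simp [hu, hys, hyt]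
    obtain ⟨e, he, hex⟩ := h.root y u hyy hyu
    refine ⟨e, he, ?_, fun k x => ?_⟩
    · have h1 : φ u s = 1 := by
        simp only [hu, map_smul, LinearMap.smul_apply, map_sub, LinearMap.sub_apply, hs, h.symm t s, smul_eq_mul]
        field_simp; ring
      have h2 : (2 : K)⁻¹ * φ u u * φ s t = -1 := by
        simp only [hu, map_smul, LinearMap.smul_apply, map_sub, LinearMap.sub_apply, hs, ht, h.symm t s,
          smul_eq_mul]
        field_simp [h.twoK]; ring
      rw [hex, hys, h1, h2, hu, smul_smul, mul_inv_cancel₀ hst, one_smul]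
      simp
    · rw [hex, hex]
      simp only [map_smul, smul_eq_mul]
      module
  by_cases hst : φ s t = 0
  swap
  · exact one s t hs ht hst
  obtain ⟨x, hxx, hsx, hxt⟩ : ∃ x, φ x x = 0 ∧ φ s x ≠ 0 ∧ φ x t ≠ 0 := by
    by_cases hmem : t ∈ (K ∙ s : Submodule K V)
    · obtain ⟨k, rfl⟩ := Submodule.mem_span_singleton.1 hmem
      obtain ⟨b, hb, hbb⟩ := h.exists_pair hs hs0
      have hk : k ≠ 0 := fun e => ht0 (by rw [e, zero_smul])
      exact ⟨b, hbb, by rw [hb]; exact one_ne_zero, by simp [h.symm b s, hb, hk]⟩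
    · obtain ⟨p, hp, hpt⟩ := h.exists_vec hmem
      have hsm : s ∉ (K ∙ t : Submodule K V) := fun e => by
        obtain ⟨k, hk⟩ := Submodule.mem_span_singleton.1 e
        refine hmem (Submodule.mem_span_singleton.2 ⟨k⁻¹, ?_⟩)
        rw [← hk, inv_smul_smul₀ (by rintro rfl; exact hs0 (by rw [← hk, zero_smul]))]
      obtain ⟨q, hq, hqs⟩ := h.exists_vec hsm
      set y := p + q with hy
      have hys : φ s y = 1 := by
        simp [hy, h.symm s p, hp s (Submodule.mem_span_singleton_self s), h.symm s q, hqs]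
      have hyt : φ y t = 1 := by simp [hy, hpt, hq t (Submodule.mem_span_singleton_self t)]
      refine ⟨y - (2⁻¹ * φ y y) • s, ?_, ?_, ?_⟩
      · simp only [map_sub, map_smul, LinearMap.sub_apply, LinearMap.smul_apply, smul_eq_mul, hs, hys, h.symm y s]
        field_simp [h.twoK]; ring
      · simp [hys, hs]
      · simp [hyt, hst]
  obtain ⟨e₁, he₁, h1, hk₁⟩ := one s x hs hxx hsx
  obtain ⟨e₂, he₂, h2, hk₂⟩ := one x t hxx ht hxt
  exact ⟨e₂ * e₁, mul_mem he₂ he₁, by show e₂.1 (e₁.1 s) = t; rw [h1, h2],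
    fun k y => by show e₂.1 (e₁.1 (k • y)) = k • e₂.1 (e₁.1 y); rw [hk₁, hk₂]⟩

/-- If the singular lines go to lines, all lines do. -/
theorem Setting.lines_of_singular [Finite F] (g : orthGroup Q)
    (hg : ∀ a, φ a a = 0 → ∀ k : K, g.1 (k • a) ∈ line F K (g.1 a)) (x : V) (k : K) :
    g.1 (k • x) ∈ line F K (g.1 x) := by
  by_cases hx : φ x x = 0
  · exact hg x hx k
  set G := Submodule.span K {z | ∃ d, φ d d = 0 ∧ φ x d = 0 ∧ g.1 d = z} with hG
  have hgen : ∀ d, φ d d = 0 → φ x d = 0 → ∀ l : K, g.1 (l • d) ∈ G := by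
    intro d hd hxd l
    obtain ⟨l', hl'⟩ := mem_line.1 (hg d hd l)
    rw [← hl']
    exact G.smul_mem _ (Submodule.subset_span ⟨d, hd, hxd, rfl⟩)
  have hperp : ∀ y, φ x y = 0 → g.1 y ∈ G := by
    intro y hy
    suffices H : ∀ l : K, g.1 (l • y) ∈ G by simpa using H 1
    refine Submodule.span_induction (p := fun z _ => ∀ l : K, g.1 (l • z) ∈ G) ?_ ?_ ?_ ?_
      (h.mem_span_singular hx hy)
    · exact fun d hd => hgen d hd.1 hd.2
    · simp
    · intro a b _ _ ha hb l
      rw [smul_add, map_add]; exact add_mem (ha l) (hb l)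
    · intro c z _ hz l
      rw [smul_smul]; exact hz _
  have hkx : ∀ l : K, ∀ z ∈ G, φ (g.1 (l • x)) z = 0 := by
    intro l z hz
    refine Submodule.span_induction (p := fun z _ => φ (g.1 (l • x)) z = 0) ?_ ?_ ?_ ?_ hz
    · rintro _ ⟨d, hd, hxd, rfl⟩
      refine h.phi_eq_zero fun c => ?_
      obtain ⟨c', hc'⟩ : ∃ c' : K, g.1 (c' • d) = c • g.1 d := by
        by_cases hd0 : d = 0
        · exact ⟨0, by simp [hd0]⟩
        have hle : (line F K d).map g.1.toLinearMap = line F K (g.1 d) := by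
          refine Submodule.eq_of_le_of_finrank_le ?_ ?_
          · rintro _ ⟨y, hy, rfl⟩
            obtain ⟨m, rfl⟩ := mem_line.1 hy
            exact hg d hd m
          · rw [finrank_line (fun e => hd0 (g.1.injective (e.trans (map_zero g.1).symm))),
              (LinearEquiv.finrank_map_eq g.1 _).trans (finrank_line hd0)]
        obtain ⟨y, hy, hy'⟩ := hle.ge (smul_mem_line (g.1 d) c)
        obtain ⟨m, rfl⟩ := mem_line.1 hy
        exact ⟨m, hy'⟩
      rw [← hc', polar_isom, h.polar_smul_smul, hxd, mul_zero, map_zero]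
    · simp
    · intro a b _ _ ha hb
      rw [map_add, ha, hb, add_zero]
    · intro c y _ hy
      rw [map_smul, hy, smul_zero]
  have hx0 : x ≠ 0 := by rintro rfl; simp at hx
  by_contra hne
  -- `g x` and `g (k • x)` are independent over `K` and both orthogonal to `G`
  set χ := (φ (g.1 x)).prod (φ (g.1 (k • x))) with hχ
  have hGle : G ≤ LinearMap.ker χ := fun z hz => by
    have h1 := hkx 1 z hz
    rw [one_smul] at h1
    simp [hχ, h1, hkx k z hz]
  have hsurj : LinearMap.range χ = ⊤ := by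
    have hne' : g.1 (k • x) ∉ (K ∙ g.1 x : Submodule K V) := hne
    have hgx : g.1 x ∉ (K ∙ g.1 (k • x) : Submodule K V) := fun e => by
      obtain ⟨l, hl⟩ := Submodule.mem_span_singleton.1 e
      refine hne' (Submodule.mem_span_singleton.2 ⟨l⁻¹, ?_⟩)
      rw [← hl, inv_smul_smul₀ (by
        rintro rfl
        rw [zero_smul] at hl
        exact hx0 (g.1.injective (hl.symm.trans (map_zero g.1).symm)))]
    obtain ⟨p, hp, hp'⟩ := h.exists_vec hne'
    obtain ⟨q, hq, hq'⟩ := h.exists_vec hgx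
    refine eq_top_iff.2 fun z _ => ⟨z.1 • q + z.2 • p, ?_⟩
    simp [hχ, h.symm (g.1 x), h.symm (g.1 (k • x)), hp', hq', hp _ (Submodule.mem_span_singleton_self _),
      hq _ (Submodule.mem_span_singleton_self _)]
  have h1 := Submodule.finrank_mono hGle
  have h2 := χ.finrank_range_add_finrank_ker
  rw [hsurj, finrank_top, finrank_prod, finrank_self] at h2
  have h3 : finrank F (LinearMap.ker (φ x) |>.restrictScalars F) ≤ finrank F (G.restrictScalars F) := by
    have hmap : ((LinearMap.ker (φ x)).restrictScalars F).map g.1.toLinearMap ≤ G.restrictScalars F := by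
      rintro _ ⟨y, hy, rfl⟩
      exact hperp y hy
    have := Submodule.finrank_mono hmap
    rwa [LinearEquiv.finrank_map_eq] at this
  have h4 : finrank F (LinearMap.ker (φ x) |>.restrictScalars F) = finrank F K * finrank K (LinearMap.ker (φ x)) :=
    (finrank_mul_finrank F K (LinearMap.ker (φ x))).symm
  have h5 : finrank F (G.restrictScalars F) = finrank F K * finrank K G :=
    (finrank_mul_finrank F K G).symm
  have h6 := (φ x).finrank_range_add_finrank_ker
  have h7 : finrank K (LinearMap.range (φ x)) ≤ 1 := by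
    simpa using Submodule.finrank_le (LinearMap.range (φ x))
  have h8 : finrank K (LinearMap.ker (φ x)) ≤ finrank K G := by
    rw [h4, h5] at h3
    exact Nat.le_of_mul_le_mul_left h3 finrank_pos
  omega

end CfsgLib.Classical.FieldExtOrth
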