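import Cfsg.Agent.Lib.Classical.FieldExtOrth.Basic

/-!
# An image of a singular line meeting the line in a hyperplane and orthogonal to it
-/

set_option autoImplicit false
set_option linter.unusedSectionVars false

namespace CfsgLib.Classical.FieldExtOrth

open Module QuadraticMap CfsgLib.Orth CfsgLib.Classical CfsgLib.Classical.FieldExtMax

variable {F K V : Type*} [Field F] [Field K] [Algebra F K] [AddCommGroup V] [Module F V] [Module K V]
  [IsScalarTower F K V] [FiniteDimensional F K] [FiniteDimensional K V] [FiniteDimensional F V]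
  {Q : QuadraticForm F V} {φ : V →ₗ[K] V →ₗ[K] K} {f₀ : K →ₗ[F] F} {M : Subgroup (orthGroup Q)}

/-- An element of `M` fixing a singular vector and moving its line. -/
structure Cfg (φ : V →ₗ[K] V →ₗ[K] K) (M : Subgroup (orthGroup Q)) (g : orthGroup Q) (a : V) : Prop where
  mem : g ∈ M
  ne : a ≠ 0
  sing : φ a a = 0
  fix : g.1 a = a
  moved : ∃ y ∈ line F K a, g.1 y ∉ line F K a

/-- The intersection of the line of `a` with its image. -/
abbrev meet (F K : Type*) {V : Type*} [Field F] [Field K] [Algebra F K] [AddCommGroup V] [Module F V] [Module K V]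
    [IsScalarTower F K V] {Q : QuadraticForm F V} (g : orthGroup Q) (a : V) : Submodule F V :=
  (line F K a).map g.1.toLinearMap ⊓ line F K a

theorem Cfg.self_mem_meet {g : orthGroup Q} {a : V} (hc : Cfg φ M g a) : a ∈ meet F K g a :=
  ⟨⟨a, self_mem_line a, hc.fix⟩, self_mem_line a⟩

theorem Cfg.finrank_meet_lt {g : orthGroup Q} {a : V} (hc : Cfg φ M g a) :
    finrank F (meet F K g a) < finrank F K := by
  rw [← finrank_line (F := F) (K := K) hc.ne]
  refine Submodule.finrank_lt_finrank_of_lt (lt_of_le_of_ne inf_le_right fun e => ?_)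
  have hle : line F K a ≤ (line F K a).map g.1.toLinearMap := fun x hx => (e.ge hx).1
  have heq := Submodule.eq_of_le_of_finrank_le hle (LinearEquiv.finrank_map_eq g.1 _).le
  obtain ⟨y, hy, hy'⟩ := hc.moved
  exact hy' (heq.ge ⟨y, hy, rfl⟩)

theorem Cfg.symm_fix {g : orthGroup Q} {a : V} (hc : Cfg φ M g a) : g.1.symm a = a :=
  g.1.symm_apply_eq.2 hc.fix.symm

theorem inf_ker_bound (S : Submodule K V) (χ : V →ₗ[K] K) :
    finrank K S ≤ finrank K (S ⊓ LinearMap.ker χ : Submodule K V) + 1 := by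
  have h1 := (χ.domRestrict S).finrank_range_add_finrank_ker
  have h2 : finrank K (LinearMap.range (χ.domRestrict S)) ≤ 1 := by
    simpa using Submodule.finrank_le (LinearMap.range (χ.domRestrict S))
  have h3 : finrank K (LinearMap.ker (χ.domRestrict S)) ≤ finrank K (S ⊓ LinearMap.ker χ : Submodule K V) := by
    rw [← LinearEquiv.finrank_eq (Submodule.equivMapOfInjective S.subtype S.injective_subtype _).symm]
    refine Submodule.finrank_mono ?_
    rintro _ ⟨u, hu, rfl⟩
    exact ⟨u.2, hu⟩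
  omega

variable (h : Setting Q φ f₀ M)
include h

/-- Two hyperplanes over `K` meet in a large space over `F`. -/
theorem Setting.two_le_inf_ker (c d : V) :
    2 * finrank F K ≤ finrank F ((LinearMap.ker (φ c) ⊓ LinearMap.ker (φ d)).restrictScalars F) := by
  have e : finrank F ((LinearMap.ker (φ c) ⊓ LinearMap.ker (φ d)).restrictScalars F) =
      finrank F K * finrank K (LinearMap.ker (φ c) ⊓ LinearMap.ker (φ d) : Submodule K V) :=
    (finrank_mul_finrank F K ↥(LinearMap.ker (φ c) ⊓ LinearMap.ker (φ d))).symm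
  have h1 := inf_ker_bound ⊤ (φ c)
  have h2 := inf_ker_bound (LinearMap.ker (φ c)) (φ d)
  rw [top_inf_eq, finrank_top] at h1
  have h3 : 2 ≤ finrank K (LinearMap.ker (φ c) ⊓ LinearMap.ker (φ d) : Submodule K V) := by
    have := h.dim; omega
  rw [e, mul_comm]
  exact Nat.mul_le_mul_left _ h3

theorem Setting.perp_iff {g : orthGroup Q} {a x : V} :
    (∀ k : K, polar Q x (g.1 (k • a)) = 0) ↔ φ a (g.1.symm x) = 0 := by
  have e : ∀ k : K, polar Q x (g.1 (k • a)) = polar Q (g.1.symm x) (k • a) := fun k => by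
    conv_lhs => rw [← g.1.apply_symm_apply x]
    rw [polar_isom]
  constructor
  · intro hx
    rw [h.symm]
    exact h.phi_eq_zero fun k => (e k).symm.trans (hx k)
  · intro hx k
    rw [e, h.polar_smul_right, h.symm, hx, mul_zero, map_zero]

/-- The conjugate of a root element at `a`. -/
theorem Setting.exists_conj {g : orthGroup Q} {a : V} (hc : Cfg φ M g a) {u : V} (hu : φ a u = 0) :
    ∃ q ∈ M, (∀ x, q.1 x = x + g.1 (φ a (g.1.symm x) • u +
        (-(φ u (g.1.symm x)) - (2 : K)⁻¹ * φ u u * φ a (g.1.symm x)) • a)) ∧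
      q.1 a = a ∧ ∀ x ∈ meet F K g a, q.1 x = x := by
  obtain ⟨e, he, hex⟩ := h.root a u hc.sing hu
  have hform : ∀ x, (g * e * g⁻¹).1 x = x + g.1 (φ a (g.1.symm x) • u +
      (-(φ u (g.1.symm x)) - (2 : K)⁻¹ * φ u u * φ a (g.1.symm x)) • a) := fun x => by
    show g.1 (e.1 (g.1.symm x)) = _
    rw [hex, add_assoc, map_add, g.1.apply_symm_apply]
  have hfix : ∀ x ∈ meet F K g a, (g * e * g⁻¹).1 x = x := by
    rintro x ⟨⟨y, hy, rfl⟩, -⟩
    obtain ⟨k, rfl⟩ := mem_line.1 hy
    rw [hform]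
    simp [hc.sing, h.symm u a, hu]
  exact ⟨_, mul_mem (mul_mem hc.mem he) (inv_mem hc.mem), hform, hfix a hc.self_mem_meet, hfix⟩

/-- The intersection grows. -/
theorem Setting.improve_finish {g q : orthGroup Q} {a : V} (hc : Cfg φ M g a) (hq : q ∈ M) (hqa : q.1 a = a)
    (hfix : ∀ x ∈ meet F K g a, q.1 x = x) {z : V} (hz : z ∈ line F K a) (hzD : z ∉ meet F K g a)
    (hqz : q.1 z ∈ line F K a) {y : V} (hy : y ∈ line F K a) (hqy : q.1 y ∉ line F K a) :
    ∃ g', Cfg φ M g' a ∧ finrank F (meet F K g a) < finrank F (meet F K g' a) := by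
  refine ⟨q, ⟨hq, hc.ne, hc.sing, hqa, y, hy, hqy⟩, Submodule.finrank_lt_finrank_of_lt ?_⟩
  refine lt_of_le_of_ne (fun x hx => ⟨⟨x, hx.2, hfix x hx⟩, hx.2⟩) fun e => hzD ?_
  have h1 : q.1 z ∈ meet F K g a := e.symm ▸ (⟨⟨z, hz, rfl⟩, hqz⟩ : q.1 z ∈ meet F K q a)
  have h2 : q.1 z = z := q.1.injective (hfix _ h1)
  rwa [h2] at h1

theorem Setting.improveA (hr : (finrank F K).Prime) {g : orthGroup Q} {a : V} (hc : Cfg φ M g a) {l₀ : V}
    (hl₀ : l₀ ∈ line F K a) (hl₀D : l₀ ∉ meet F K g a) (hperp : φ a (g.1.symm l₀) = 0)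
    (hd : finrank F (meet F K g a) + 2 ≤ finrank F K) :
    ∃ g', Cfg φ M g' a ∧ finrank F (meet F K g a) < finrank F (meet F K g' a) := by
  set L := line F K a with hL
  set D := meet F K g a with hD
  have hn0 : g.1.symm l₀ ∉ (K ∙ a : Submodule K V) := fun hmem => by
    refine hl₀D ⟨⟨g.1.symm l₀, hmem, g.1.apply_symm_apply l₀⟩, hl₀⟩
  obtain ⟨c₀, hc₀a, hc₀l⟩ := h.exists_vec hn0
  have hc₀a' : φ a c₀ = 0 := by rw [h.symm]; exact hc₀a a (Submodule.mem_span_singleton_self a)
  let τ : K →ₗ[F] V := g.1.toLinearMap ∘ₗ (LinearMap.toSpanSingleton K V a).restrictScalars F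
  have hτ : ∀ k, τ k = g.1 (k • a) := fun k => rfl
  set Dk := L.comap τ with hDk
  have hDk1 : (1 : K) ∈ Dk := by
    show τ 1 ∈ L
    rw [hτ, one_smul, hc.fix]; exact self_mem_line a
  obtain ⟨k₀, hk₀⟩ : ∃ k, k ∉ Dk := by
    obtain ⟨y, hy, hy'⟩ := hc.moved
    obtain ⟨k, rfl⟩ := mem_line.1 hy
    exact ⟨k, hy'⟩
  by_cases hall : ∀ l ∈ L, φ a (g.1.symm l) = 0
  · obtain ⟨l₁, hl₁, hl₁'⟩ : ∃ l₁ ∈ L, l₁ ∉ D ⊔ F ∙ l₀ := by
      refine SetLike.not_le_iff_exists.1 fun hle => ?_
      have h1 := Submodule.finrank_mono hle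
      have h2 := Submodule.finrank_add_le_finrank_add_finrank D (F ∙ l₀ : Submodule F V)
      have h3 : finrank F (F ∙ l₀ : Submodule F V) = 1 :=
        finrank_span_singleton fun e => hl₀D (e ▸ D.zero_mem)
      rw [hL, finrank_line hc.ne] at h1
      omega
    obtain ⟨u, hua, hu0, hu1⟩ : ∃ u, φ a u = 0 ∧ φ u (g.1.symm l₀) ∈ Dk ∧ φ u (g.1.symm l₁) ∉ Dk := by
      by_cases hdep : g.1.symm l₁ ∈ Submodule.span K {a, g.1.symm l₀}
      · obtain ⟨μ, κ, hμκ⟩ := Submodule.mem_span_pair.1 hdep
        have hκ : ∀ c : F, algebraMap F K c ≠ κ := by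
          intro c hcκ
          refine hl₁' (Submodule.mem_sup.2 ⟨g.1 (μ • a), ⟨⟨_, smul_mem_line a μ, rfl⟩, ?_⟩, c • l₀,
            Submodule.smul_mem _ _ (Submodule.mem_span_singleton_self _), ?_⟩)
          · have e : g.1 (μ • a) = l₁ - c • l₀ := by
              rw [← g.1.apply_symm_apply l₁, ← hμκ, ← hcκ, algebraMap_smul, map_add, g.1.map_smul,
                g.1.apply_symm_apply, add_sub_cancel_right]
            rw [e]
            exact L.sub_mem hl₁ (L.smul_mem _ hl₀)
          · rw [← g.1.apply_symm_apply l₁, ← hμκ, ← hcκ, algebraMap_smul, map_add, g.1.map_smul,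
              g.1.apply_symm_apply]
        obtain ⟨d, hd1, hd2⟩ : ∃ d ∈ Dk, κ • d ∉ Dk := by
          by_contra hc'
          push Not at hc'
          refine hk₀ ?_
          have := smul_mem_of_stable hr hκ hc' k₀ hDk1
          simpa using this
        refine ⟨d • c₀, by simp [hc₀a'], by simpa [hc₀l] using hd1, ?_⟩
        rw [← hμκ]
        simpa [hc₀a a (Submodule.mem_span_singleton_self a), hc₀l, mul_comm d κ] using hd2
      · obtain ⟨c₁, hc₁, hc₁l⟩ := h.exists_vec hdep
        have hc₁a : φ a c₁ = 0 := by rw [h.symm]; exact hc₁ a (Submodule.subset_span (by simp))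
        refine ⟨c₀ + (k₀ - φ c₀ (g.1.symm l₁)) • c₁, by simp [hc₀a', hc₁a], ?_, ?_⟩
        · simpa [hc₀l, hc₁ (g.1.symm l₀) (Submodule.subset_span (by simp))] using hDk1
        · simpa [hc₁l] using hk₀
    obtain ⟨q, hq, hqx, hqa, hqf⟩ := h.exists_conj hc hua
    have hval : ∀ l ∈ L, q.1 l = l - τ (φ u (g.1.symm l)) := fun l hl => by
      rw [hqx, hall l hl, hτ]
      simp [sub_eq_add_neg]
    refine h.improve_finish hc hq hqa hqf hl₀ hl₀D ?_ hl₁ ?_
    · rw [hval l₀ hl₀]; exact L.sub_mem hl₀ hu0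
    · rw [hval l₁ hl₁]
      intro hmem
      exact hu1 (show τ _ ∈ L by simpa using L.sub_mem hl₁ hmem)
  · push Not at hall
    obtain ⟨l, hl, hle⟩ := hall
    set e := φ a (g.1.symm l) with he
    obtain ⟨q₁, hq₁, hq₁x, hq₁a, hq₁f⟩ := h.exists_conj hc hc₀a'
    have hq₁l₀ : q₁.1 l₀ ∈ L := by
      rw [hq₁x, hperp, hc₀l]
      have : g.1 ((0 : K) • c₀ + (-1 - 2⁻¹ * φ c₀ c₀ * 0) • a) = -a := by simp [hc.fix]
      rw [this]
      exact L.add_mem hl₀ (L.neg_mem (self_mem_line a))
    set U₀ := (LinearMap.ker (φ a) ⊓ LinearMap.ker (φ (g.1.symm l₀))).restrictScalars F with hU₀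
    obtain ⟨u₀, hu₀, hu₀l⟩ : ∃ u₀ ∈ U₀, ∀ q : orthGroup Q, (∀ x, q.1 x = x + g.1 (φ a (g.1.symm x) • u₀ +
        (-(φ u₀ (g.1.symm x)) - (2 : K)⁻¹ * φ u₀ u₀ * φ a (g.1.symm x)) • a)) → q.1 l ∉ L := by
      by_contra hno
      push Not at hno
      set D₂ := L ⊓ ((LinearMap.ker (φ a)).restrictScalars F).comap g.1.symm.toLinearMap with hD₂
      set T := D₂.map g.1.symm.toLinearMap ⊔ L with hT
      have hle' : U₀.map ((LinearMap.lsmul K V e).restrictScalars F) ≤ T := by
        rintro _ ⟨u, hu, rfl⟩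
        obtain ⟨q, hqx, hql⟩ := hno u hu
        have hua : φ a u = 0 := hu.1
        rw [hqx] at hql
        set w := e • u + (-(φ u (g.1.symm l)) - (2 : K)⁻¹ * φ u u * e) • a with hw
        have hgw : g.1 w ∈ D₂ := by
          refine ⟨?_, ?_⟩
          · simpa using L.sub_mem hql hl
          · show φ a (g.1.symm (g.1 w)) = 0
            simp [hw, hua, hc.sing]
        refine Submodule.mem_sup.2 ⟨w, ⟨_, hgw, g.1.symm_apply_apply w⟩, _,
          smul_mem_line a (φ u (g.1.symm l) + (2 : K)⁻¹ * φ u u * e), ?_⟩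
        simp only [hw, LinearMap.coe_restrictScalars, LinearMap.lsmul_apply]
        module
      have h1 := Submodule.finrank_mono hle'
      have hinj : Function.Injective ((LinearMap.lsmul K V e).restrictScalars F) := fun x y hxy =>
        smul_right_injective V hle hxy
      rw [← LinearEquiv.finrank_eq (Submodule.equivMapOfInjective _ hinj U₀)] at h1
      have h2 := h.two_le_inf_ker a (g.1.symm l₀)
      have h3 := Submodule.finrank_sup_add_finrank_inf_eq (D₂.map g.1.symm.toLinearMap) L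
      have h4 : 0 < finrank F ↥(D₂.map g.1.symm.toLinearMap ⊓ L) := by
        refine finrank_pos_iff_exists_ne_zero.2 ⟨⟨a, ⟨a, ⟨self_mem_line a, ?_⟩, hc.symm_fix⟩, self_mem_line a⟩, ?_⟩
        · show φ a (g.1.symm a) = 0
          rw [hc.symm_fix, hc.sing]
        · exact fun e0 => hc.ne (congrArg Subtype.val e0)
      have h5 : finrank F (D₂.map g.1.symm.toLinearMap) ≤ finrank F L :=
        (LinearEquiv.finrank_map_eq g.1.symm D₂).le.trans (Submodule.finrank_mono inf_le_left)
      have h6 : finrank F L = finrank F K := finrank_line hc.ne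
      rw [← hU₀] at h2
      rw [← hT] at h3
      omega
    obtain ⟨q₀, hq₀, hq₀x, hq₀a, hq₀f⟩ := h.exists_conj hc (show φ a u₀ = 0 from hu₀.1)
    by_cases hq₁L : ∃ y ∈ L, q₁.1 y ∉ L
    · obtain ⟨y, hy, hy'⟩ := hq₁L
      exact h.improve_finish hc hq₁ hq₁a hq₁f hl₀ hl₀D hq₁l₀ hy hy'
    push Not at hq₁L
    have hq₀l₀ : q₀.1 l₀ = l₀ := by
      rw [hq₀x, hperp, h.symm u₀, show φ (g.1.symm l₀) u₀ = 0 from hu₀.2]
      simp
    refine h.improve_finish hc (mul_mem hq₁ hq₀) ?_ ?_ hl₀ hl₀D ?_ hl ?_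
    · show q₁.1 (q₀.1 a) = a
      rw [hq₀a, hq₁a]
    · intro x hx
      show q₁.1 (q₀.1 x) = x
      rw [hq₀f x hx, hq₁f x hx]
    · show q₁.1 (q₀.1 l₀) ∈ L
      rw [hq₀l₀]; exact hq₁l₀
    · show q₁.1 (q₀.1 l) ∉ L
      intro hmem
      have hle' : L.map q₁.1.toLinearMap ≤ L := by
        rintro _ ⟨y, hy, rfl⟩
        exact hq₁L y hy
      obtain ⟨y, hy, hy'⟩ := (Submodule.eq_of_le_of_finrank_le hle' (LinearEquiv.finrank_map_eq q₁.1 _).ge).ge hmem
      exact hu₀l q₀ hq₀x (q₁.1.injective hy' ▸ hy)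

/-- Reaching the case where the line has a vector orthogonal to its image. -/
theorem Setting.toA [Finite F] {g : orthGroup Q} {a : V} (hc : Cfg φ M g a) :
    ∃ g', Cfg φ M g' a ∧ finrank F (meet F K g a) ≤ finrank F (meet F K g' a) ∧
      (finrank F (meet F K g a) < finrank F (meet F K g' a) ∨
        ∃ l₀ ∈ line F K a, l₀ ∉ meet F K g' a ∧ φ a (g'.1.symm l₀) = 0) := by
  classical
  set L := line F K a with hL
  set D := meet F K g a with hD
  by_cases hA : ∃ l₀ ∈ L, l₀ ∉ D ∧ φ a (g.1.symm l₀) = 0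
  · exact ⟨g, hc, le_rfl, Or.inr hA⟩
  push Not at hA
  have hA' : ∀ l ∈ L, φ a (g.1.symm l) = 0 → l ∈ D := fun l hl h0 => by
    by_contra hn
    exact hA l hl hn h0
  obtain ⟨b, hab, -⟩ := h.exists_pair hc.sing hc.ne
  set U := (LinearMap.ker (φ a) ⊓ LinearMap.ker (φ b)).restrictScalars F with hU
  obtain ⟨C, hC⟩ := Submodule.exists_isCompl (D.comap L.subtype)
  let cb := Module.finBasis F C
  set x : Fin (finrank F C) → V := fun i => ((cb i : L) : V) with hx
  have hxL : ∀ i, x i ∈ L := fun i => (cb i : L).2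
  let ub := Module.finBasis F U
  have hsize : 2 * finrank F C < finrank F U := by
    have h1 := Submodule.finrank_add_eq_of_isCompl hC
    have h2 : finrank F (D.comap L.subtype) = finrank F D :=
      LinearEquiv.finrank_eq (Submodule.comapSubtypeEquivOfLe inf_le_right)
    have h3 : finrank F L = finrank F K := finrank_line hc.ne
    have h4 := h.two_le_inf_ker a b
    have h5 : 0 < finrank F D :=
      finrank_pos_iff_exists_ne_zero.2 ⟨⟨a, hc.self_mem_meet⟩, fun e => hc.ne (congrArg Subtype.val e)⟩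
    rw [← hU] at h4
    omega
  -- the pairing of the moved line with the line, as a polynomial in `u`
  set α : Fin (finrank F C) → K := fun i => φ a (g.1.symm (x i)) with hα
  let lin : Fin (finrank F C) → Fin (finrank F C) → U →ₗ[F] F := fun i j =>
    f₀ ∘ₗ ((α i • (φ.flip (g.1.symm (x j))) - α j • φ.flip (g.1.symm (x i))).restrictScalars F) ∘ₗ U.subtype
  let quad : Fin (finrank F C) → Fin (finrank F C) → U → U → F := fun i j u v =>
    f₀ (-(2 : K)⁻¹ * φ (u : V) (v : V) * α i * α j)
  let P : Matrix (Fin (finrank F C)) (Fin (finrank F C)) (MvPolynomial (Fin (finrank F U)) F) := fun i j =>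
    ∑ s, MvPolynomial.C (lin i j (ub s)) * MvPolynomial.X s +
      ∑ s, ∑ t, MvPolynomial.C (quad i j (ub s) (ub t)) * (MvPolynomial.X s * MvPolynomial.X t)
  have hdeg : ∀ i j, (P i j).totalDegree ≤ 2 := fun i j => by
    refine (MvPolynomial.totalDegree_add _ _).trans (max_le ?_ ?_)
    · refine MvPolynomial.totalDegree_finsetSum_le fun s _ => (MvPolynomial.totalDegree_mul _ _).trans ?_
      rw [MvPolynomial.totalDegree_C, MvPolynomial.totalDegree_X]
      omega
    · refine MvPolynomial.totalDegree_finsetSum_le fun s _ => MvPolynomial.totalDegree_finsetSum_le fun t _ =>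
        (MvPolynomial.totalDegree_mul _ _).trans ?_
      have := MvPolynomial.totalDegree_mul (MvPolynomial.X s : MvPolynomial (Fin (finrank F U)) F) (MvPolynomial.X t)
      rw [MvPolynomial.totalDegree_X, MvPolynomial.totalDegree_X] at this
      rw [MvPolynomial.totalDegree_C]
      omega
  have hdet : P.det.totalDegree < Fintype.card (Fin (finrank F U)) := by
    rw [Fintype.card_fin]
    refine lt_of_le_of_lt ?_ hsize
    rw [Matrix.det_apply]
    refine MvPolynomial.totalDegree_finsetSum_le fun σ _ => ?_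
    refine (MvPolynomial.totalDegree_smul_le _ _).trans ((MvPolynomial.totalDegree_finset_prod _ _).trans ?_)
    refine (Finset.sum_le_card_nsmul _ _ 2 fun i _ => hdeg _ _).trans ?_
    rw [Finset.card_univ, Fintype.card_fin, smul_eq_mul, mul_comm]
  haveI : Fintype F := Fintype.ofFinite F
  obtain ⟨p, hp⟩ := CharP.exists F
  haveI := hp
  have hpp : p.Prime := (CharP.char_is_prime_or_zero F p).resolve_right (CharP.char_ne_zero_of_finite F p)
  have hcw := char_dvd_card_solutions p hdet
  -- away from `D` the pairing with the image is non-zero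
  have hev : ∀ (c : Fin (finrank F U) → F) i j,
      MvPolynomial.eval c (P i j) = lin i j (∑ s, c s • ub s) + quad i j (∑ s, c s • ub s) (∑ s, c s • ub s) := by
    intro c i j
    simp only [P, map_add, map_sum, map_mul, MvPolynomial.eval_C, MvPolynomial.eval_X, map_smul, smul_eq_mul]
    congr 1
    · exact Finset.sum_congr rfl fun s _ => mul_comm _ _
    · simp only [quad, Submodule.coe_sum, Submodule.coe_smul, map_sum, LinearMap.sum_apply,
        LinearMap.map_smul_of_tower, LinearMap.smul_apply, Finset.mul_sum, Finset.sum_mul, mul_smul_comm,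
        smul_mul_assoc, map_smul, smul_eq_mul]
      rw [Finset.sum_comm]
      refine Finset.sum_congr rfl fun s _ => Finset.sum_congr rfl fun t _ => ?_
      simp only [← smul_eq_mul, map_smul, LinearMap.map_smul_of_tower]
      simp only [smul_eq_mul]
      ring
  have hzero : MvPolynomial.eval (0 : Fin (finrank F U) → F) P.det = 0 := by
    rcases Nat.eq_zero_or_pos (finrank F C) with h0 | h0
    · exfalso
      have h1 := Submodule.finrank_add_eq_of_isCompl hC
      have h2 : finrank F (D.comap L.subtype) = finrank F D :=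
        LinearEquiv.finrank_eq (Submodule.comapSubtypeEquivOfLe inf_le_right)
      have h3 : finrank F L = finrank F K := finrank_line hc.ne
      have h4 := hc.finrank_meet_lt
      rw [← hD] at h4
      omega
    haveI : Nonempty (Fin (finrank F C)) := ⟨⟨0, h0⟩⟩
    rw [RingHom.map_det]
    convert Matrix.det_zero (R := F) (n := Fin (finrank F C)) using 2
    ext i j
    show MvPolynomial.eval 0 (P i j) = 0
    rw [hev]
    simp [quad]
  obtain ⟨c, hc0, hcdet⟩ : ∃ c : Fin (finrank F U) → F, c ≠ 0 ∧ MvPolynomial.eval c P.det = 0 := by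
    by_contra hno
    push Not at hno
    have hle : Fintype.card {c : Fin (finrank F U) → F // MvPolynomial.eval c P.det = 0} ≤ 1 :=
      Fintype.card_le_one_iff.2 fun c c' => by
        have e1 : c.1 = 0 := by_contra fun hn => hno c.1 hn c.2
        have e2 : c'.1 = 0 := by_contra fun hn => hno c'.1 hn c'.2
        exact Subtype.ext (e1.trans e2.symm)
    have hpos : 0 < Fintype.card {c : Fin (finrank F U) → F // MvPolynomial.eval c P.det = 0} :=
      Fintype.card_pos_iff.2 ⟨⟨0, hzero⟩⟩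
    have := Nat.le_of_dvd hpos hcw
    have := hpp.two_le
    omega
  set u : U := ∑ s, c s • ub s with hu
  have hu0 : (u : V) ≠ 0 := fun e => hc0 (funext fun s => by
    have h1 : u = 0 := Subtype.ext e
    exact Fintype.linearIndependent_iff.1 ub.linearIndependent c h1 s)
  have hua : φ a (u : V) = 0 := u.2.1
  have hub : φ b (u : V) = 0 := u.2.2
  obtain ⟨q, hq, hqx, hqa, hqf⟩ := h.exists_conj hc hua
  -- the image of the line by `q` differs from the line
  obtain ⟨y, hy, hqy⟩ : ∃ y ∈ L, q.1 y ∉ L := by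
    by_contra hno
    push Not at hno
    obtain ⟨y, hy, hyD⟩ : ∃ y ∈ L, y ∉ D := SetLike.not_le_iff_exists.1 fun hle => by
      have h1 := Submodule.finrank_mono hle
      have h3 : finrank F L = finrank F K := finrank_line hc.ne
      have h4 := hc.finrank_meet_lt
      rw [← hD] at h4
      omega
    set e := φ a (g.1.symm y) with he
    have he0 : e ≠ 0 := fun h0 => hyD (hA' y hy h0)
    set w := e • (u : V) + (-(φ (u : V) (g.1.symm y)) - (2 : K)⁻¹ * φ (u : V) u * e) • a with hw
    have hgw : g.1 w ∈ L := by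
      have h1 := L.sub_mem (hno y hy) hy
      rwa [hqx, add_sub_cancel_left] at h1
    have hwD := hA' _ hgw (by simp [hw, hua, hc.sing])
    obtain ⟨z, hz, hz'⟩ := hwD.1
    obtain ⟨k, rfl⟩ := mem_line.1 hz
    have hkw : k • a = w := g.1.injective hz'
    refine hu0 ?_
    have h2 : φ b (k • a) = φ b w := by rw [hkw]
    have hba : φ b a = 1 := by rw [h.symm, hab]
    simp only [hw, map_add, map_smul, hub, hba, smul_eq_mul, mul_one, mul_zero, zero_add] at h2
    have h3 : e • (u : V) = 0 := by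
      have h4 : w = k • a := hkw.symm
      rw [hw, ← h2] at h4
      simpa using h4
    exact (smul_eq_zero.1 h3).resolve_left he0
  -- a vector of the line orthogonal to the image of `q⁻¹`
  have hmat : (P.map (MvPolynomial.eval c)).det = 0 := by rwa [← RingHom.mapMatrix_apply, ← RingHom.map_det]
  obtain ⟨v, hv0, hv⟩ := Matrix.exists_vecMul_eq_zero_iff.2 hmat
  set z : V := ∑ i, v i • x i with hz
  have hzL : z ∈ L := L.sum_mem fun i _ => L.smul_mem _ (hxL i)
  have hzD : z ∉ D := fun hmem => by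
    set z' : L := ∑ i, v i • (cb i : L) with hz'
    have hz'' : (z' : V) = z := by simp [hz', hz, hx]
    have h1 : z' ∈ D.comap L.subtype := by show (z' : V) ∈ D; rw [hz'']; exact hmem
    have h2 : z' ∈ C := C.sum_mem fun i _ => C.smul_mem _ (cb i).2
    have h3 : z' = 0 := Submodule.disjoint_def.1 hC.disjoint z' h1 h2
    refine hv0 (funext fun i => Fintype.linearIndependent_iff.1 cb.linearIndependent v (Subtype.ext ?_) i)
    simpa [hz'] using h3
  have hpair : ∀ l ∈ L, polar Q (q.1 z) l = 0 := by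
    have hxx : ∀ i j, polar Q (q.1 (x i)) (x j) = MvPolynomial.eval c (P i j) := by
      intro i j
      rw [hev, hqx, polar_add_left]
      have h0 : polar Q (x i) (x j) = 0 := by
        obtain ⟨k, hk⟩ := mem_line.1 (hxL i)
        obtain ⟨l, hl⟩ := mem_line.1 (hxL j)
        rw [← hk, ← hl, h.polar_smul_smul, hc.sing, mul_zero, map_zero]
      have h1 : ∀ w, polar Q (g.1 w) (x j) = polar Q w (g.1.symm (x j)) := fun w => by
        conv_lhs => rw [← g.1.apply_symm_apply (x j)]
        rw [polar_isom]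
      rw [h0, zero_add, h1, h.eq]
      simp only [lin, quad, hu, hα, LinearMap.comp_apply, Submodule.subtype_apply, LinearMap.coe_restrictScalars,
        LinearMap.sub_apply, LinearMap.smul_apply, LinearMap.flip_apply, map_add, LinearMap.add_apply, map_smul,
        map_sub, smul_eq_mul]
      rw [← map_sub, ← map_add, ← map_add]
      congr 1
      ring
    intro l hl
    have hmem : (⟨l, hl⟩ : L) ∈ D.comap L.subtype ⊔ C := by rw [hC.sup_eq_top]; exact Submodule.mem_top
    obtain ⟨d, hd, cc, hcc, e⟩ := Submodule.mem_sup.1 hmem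
    have hld : l = (d : V) + (cc : V) := (congrArg Subtype.val e).symm
    rw [hld, polar_add_right]
    have hdz : polar Q (q.1 z) (d : V) = 0 := by
      conv_lhs => rw [← hqf (d : V) hd]
      rw [polar_isom]
      obtain ⟨k, hk⟩ := mem_line.1 hzL
      obtain ⟨l', hl'⟩ := mem_line.1 d.2
      rw [← hk, ← hl', h.polar_smul_smul, hc.sing, mul_zero, map_zero]
    have hccx : (cc : V) = ∑ j, cb.repr ⟨cc, hcc⟩ j • x j := by
      have := congrArg (fun w : C => ((w : L) : V)) (cb.sum_repr ⟨cc, hcc⟩)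
      simp only [Submodule.coe_sum, Submodule.coe_smul] at this
      exact this.symm
    rw [hdz, zero_add, hccx, ← QuadraticMap.polarBilin_apply_apply, map_sum]
    refine Finset.sum_eq_zero fun j _ => ?_
    rw [map_smul, hz, map_sum, map_sum, LinearMap.sum_apply]
    have hsum : ∑ i, ((QuadraticMap.polarBilin Q) (q.1 (v i • x i))) (x j) = 0 := by
      have := congrFun hv j
      simpa [Matrix.vecMul, dotProduct, hxx, map_smul, LinearMap.smul_apply] using this
    rw [hsum, smul_zero]
  have hfixi : ∀ d ∈ D, (q⁻¹).1 d = d := fun d hd => q.1.symm_apply_eq.2 (hqf d hd).symm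
  have hle : D ≤ meet F K q⁻¹ a := fun d hd => ⟨⟨d, hd.2, hfixi d hd⟩, hd.2⟩
  have hcfg : Cfg φ M q⁻¹ a := by
    refine ⟨inv_mem hq, hc.ne, hc.sing, hfixi a hc.self_mem_meet, ?_⟩
    by_contra hno
    push Not at hno
    have hle' : L.map (q⁻¹).1.toLinearMap ≤ L := by rintro _ ⟨w, hw, rfl⟩; exact hno w hw
    obtain ⟨w, hw, hw'⟩ := (Submodule.eq_of_le_of_finrank_le hle' (LinearEquiv.finrank_map_eq (q⁻¹).1 _).ge).ge hy
    have : q.1 y = w := by rw [← hw']; exact inv_apply q w
    exact hqy (this ▸ hw)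
  refine ⟨q⁻¹, hcfg, Submodule.finrank_mono hle, ?_⟩
  by_cases hz2 : z ∈ meet F K q⁻¹ a
  · exact Or.inl (Submodule.finrank_lt_finrank_of_lt (lt_of_le_of_ne hle fun e => hzD (e ▸ hz2)))
  · refine Or.inr ⟨z, hzL, hz2, h.perp_iff.1 fun k => ?_⟩
    have := hpair _ (smul_mem_line a k)
    rw [← inv_apply q (k • a), polar_isom] at this
    exact this

/-- The final configuration. -/
theorem Setting.exists_final [Finite F] (hr : (finrank F K).Prime) {g : orthGroup Q} {a : V} (hc : Cfg φ M g a) :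
    ∃ g', Cfg φ M g' a ∧ finrank F (meet F K g' a) + 1 = finrank F K ∧
      ∀ l ∈ line F K a, φ a (g'.1.symm l) = 0 := by
  suffices H : ∀ n g, Cfg φ M g a → finrank F K ≤ finrank F (meet F K g a) + n →
      ∃ g', Cfg φ M g' a ∧ finrank F (meet F K g' a) + 1 = finrank F K ∧
        ∀ l ∈ line F K a, φ a (g'.1.symm l) = 0 from H (finrank F K) g hc (by omega)
  intro n
  induction n with
  | zero => intro g hc hn; have := hc.finrank_meet_lt; omega
  | succ n ih =>
    intro g hc hn
    obtain ⟨g₁, hc₁, hle, hA⟩ := h.toA hc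
    rcases hA with hlt | ⟨l₀, hl₀, hl₀D, hl₀p⟩
    · exact ih g₁ hc₁ (by omega)
    by_cases hfin : finrank F K ≤ finrank F (meet F K g₁ a) + 1
    · refine ⟨g₁, hc₁, by have := hc₁.finrank_meet_lt; omega, fun l hl => ?_⟩
      set D := meet F K g₁ a
      have hlt : D < D ⊔ F ∙ l₀ := lt_of_le_of_ne le_sup_left fun e =>
        hl₀D (e ▸ Submodule.mem_sup_right (Submodule.mem_span_singleton_self l₀))
      have hsup : D ⊔ F ∙ l₀ = line F K a := by
        refine Submodule.eq_of_le_of_finrank_le (sup_le inf_le_right ?_) ?_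
        · exact (Submodule.span_singleton_le_iff_mem _ _).2 hl₀
        · rw [finrank_line hc.ne]
          have := Submodule.finrank_lt_finrank_of_lt hlt
          omega
      obtain ⟨d, hd, w, hw, rfl⟩ := Submodule.mem_sup.1 (hsup.ge hl)
      obtain ⟨t, rfl⟩ := Submodule.mem_span_singleton.1 hw
      obtain ⟨y, hy, hy'⟩ := hd.1
      obtain ⟨k, rfl⟩ := mem_line.1 hy
      rw [← hy', map_add, LinearEquiv.coe_coe, g₁.1.symm_apply_apply, g₁.1.symm.map_smul, map_add]
      simp [LinearMap.map_smul_of_tower, hl₀p, hc.sing]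
    · obtain ⟨g₂, hc₂, hlt⟩ := h.improveA hr hc₁ hl₀ hl₀D hl₀p (by omega)
      exact ih g₂ hc₂ (by omega)

end CfsgLib.Classical.FieldExtOrth
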