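import Cfsg.Agent.Lib.Classical.FieldExtOrth.Root

/-!
# An overgroup with such a Siegel element contains every Siegel element
-/

set_option autoImplicit false
set_option linter.unusedSectionVars false

namespace CfsgLib.Classical.FieldExtOrth

open Module QuadraticMap CfsgLib.Orth CfsgLib.Classical CfsgLib.Classical.FieldExtMax

variable {F K V : Type*} [Field F] [Field K] [Algebra F K] [AddCommGroup V] [Module F V] [Module K V]
  [IsScalarTower F K V] [FiniteDimensional F K] [FiniteDimensional K V] [FiniteDimensional F V]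
  {Q : QuadraticForm F V} {φ : V →ₗ[K] V →ₗ[K] K} {f₀ : K →ₗ[F] F} {M : Subgroup (orthGroup Q)}

theorem siegelIn_swap' (hQ : (QuadraticMap.polarBilin Q).Nondegenerate) {d u : V} (hd : Q d = 0) (hu : Q u = 0)
    (hdu : polar Q d u = 0) (h : SiegelIn M d u) : SiegelIn M u (-d) := by
  intro g hg
  obtain ⟨s, hs⟩ := exists_isSiegel hQ hd hdu
  rw [hg.unique (IsSiegel.swap hu hs)]
  exact h s hs

/-- The parameters of Siegel elements of `M` at `d`, up to scalars of `F`. -/
def wsp (hQ : (QuadraticMap.polarBilin Q).Nondegenerate) (M : Subgroup (orthGroup Q)) (d : V) (hd : Q d = 0) :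
    Submodule F V where
  carrier := {u | polar Q d u = 0 ∧ ∀ t : F, SiegelIn M d (t • u)}
  add_mem' := fun {u v} hu hv => ⟨by rw [polar_add_right, hu.1, hv.1, add_zero], fun t => by
    rw [smul_add]
    exact SiegelIn.add hQ hd (by rw [polar_smul_r', hu.1, mul_zero]) (by rw [polar_smul_r', hv.1, mul_zero])
      (hu.2 t) (hv.2 t)⟩
  zero_mem' := ⟨by rw [polar_zero_right], fun t => by
    rw [smul_zero, ← zero_smul F d]; exact siegelIn_smul_self M hd 0⟩
  smul_mem' := fun s u hu => ⟨by rw [polar_smul_r', hu.1, mul_zero], fun t => by rw [smul_smul]; exact hu.2 _⟩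

variable (h : Setting Q φ f₀ M)
include h

theorem Setting.smul_self_mem_wsp {d : V} (hd : φ d d = 0) :
    d ∈ wsp h.nondegQ M d (h.quad_zero hd) :=
  ⟨by rw [h.eq, hd, map_zero], fun t => siegelIn_smul_self M (h.quad_zero hd) t⟩

/-- All lines carry the root. -/
theorem Setting.roots [Finite F] {a : V} (ha : φ a a = 0) (ha0 : a ≠ 0) {c : K} (hc : SiegelIn M a (c • a))
    {d : V} (hd : φ d d = 0) : SiegelIn M d (c • d) := by
  rcases eq_or_ne d 0 with rfl | hd0
  · have hQ0 : Q (0 : V) = 0 := h.quad_zero (by simp)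
    simpa using siegelIn_smul_self M hQ0 1
  obtain ⟨e, he, hea, hek⟩ := h.transitive ha hd ha0 hd0
  have h1 := hc.conj he
  rwa [hea, hek, hea] at h1

theorem Setting.root_mem_wsp {c : K} (hR : ∀ d, φ d d = 0 → SiegelIn M d (c • d)) {d : V} (hd : φ d d = 0) :
    c • d ∈ wsp h.nondegQ M d (h.quad_zero hd) := by
  refine ⟨by rw [h.polar_smul_right, hd, mul_zero, map_zero], fun t => ?_⟩
  have hQd := h.quad_zero hd
  have sq : ∀ l : F, SiegelIn M d ((l * l) • c • d) := fun l => by
    rcases eq_or_ne l 0 with rfl | hl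
    · rw [mul_zero, zero_smul, ← zero_smul F d]; exact siegelIn_smul_self M hQd 0
    intro g hg
    have hlx : φ (l • d) (l • d) = 0 := by simp [LinearMap.map_smul_of_tower, hd]
    obtain ⟨s, hs⟩ := exists_isSiegel h.nondegQ (h.quad_zero hlx)
      (show polar Q (l • d) (c • l • d) = 0 by rw [h.polar_smul_right, hlx, mul_zero, map_zero])
    have h5 := hs.of_smul hl
    rw [smul_comm c l d, smul_smul] at h5
    rw [hg.unique h5]
    exact hR _ hlx s hs
  have hcp : ∀ l : F, polar Q d ((l * l) • c • d) = 0 := fun l => by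
    rw [polar_smul_r', h.polar_smul_right, hd, mul_zero, map_zero, mul_zero]
  have h5 := SiegelIn.add h.nondegQ hQd (hcp ((t + 1) / 2))
    (by rw [polar_neg_right, hcp ((t - 1) / 2), neg_zero]) (sq _)
    (SiegelIn.neg h.nondegQ hQd (hcp ((t - 1) / 2)) (sq _))
  rw [← neg_smul, ← add_smul] at h5
  rwa [show (t + 1) / 2 * ((t + 1) / 2) + -((t - 1) / 2 * ((t - 1) / 2)) = t by
    have := h.two
    field_simp; ring] at h5

theorem Setting.roots_inv {c : K} (hc0 : c ≠ 0) (hR : ∀ d, φ d d = 0 → SiegelIn M d (c • d)) {d : V}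
    (hd : φ d d = 0) : SiegelIn M d (c⁻¹ • d) := by
  have hd' : φ (c⁻¹ • d) (c⁻¹ • d) = 0 := by simp [hd]
  have h1 := hR _ hd'
  rw [smul_smul, mul_inv_cancel₀ hc0, one_smul] at h1
  have hp : polar Q (c⁻¹ • d) d = 0 := by rw [h.polar_smul_left, hd, mul_zero, map_zero]
  have hp' : polar Q d (c⁻¹ • d) = 0 := by rw [polar_comm, hp]
  have h2 := siegelIn_swap' h.nondegQ (h.quad_zero hd') (h.quad_zero hd) hp h1
  have h3 := SiegelIn.neg h.nondegQ (h.quad_zero hd) (by rw [polar_neg_right, hp', neg_zero]) h2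
  rwa [neg_neg] at h3

/-- A singular vector in special position. -/
theorem Setting.mem_wsp_of_good {c : K} (hR : ∀ d, φ d d = 0 → SiegelIn M d (c • d)) {d d' : V}
    (hd : φ d d = 0) (hd' : φ d' d' = 0) (h0 : f₀ (φ d' d) = 0) (h1 : f₀ (c * φ d' d) = 0)
    (h2 : f₀ (c * c * φ d' d) ≠ 0) : d' ∈ wsp h.nondegQ M d (h.quad_zero hd) := by
  have hdd' : polar Q d d' = 0 := by rw [polar_comm, h.eq, h0]
  refine ⟨hdd', fun t => ?_⟩
  have hQd := h.quad_zero hd
  set k := f₀ (c * c * φ d' d) with hk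
  -- conjugating the root at `d` by the root at `d'`
  have key : ∀ s : F, SiegelIn M d (-(s * s * k) • d') := by
    intro s
    have hsd : φ (s • d') (s • d') = 0 := by simp [LinearMap.map_smul_of_tower, hd']
    have hp : polar Q (s • d') (c • (s • d')) = 0 := by rw [h.polar_smul_right, hsd, mul_zero, map_zero]
    obtain ⟨g, hg⟩ := exists_isSiegel h.nondegQ (h.quad_zero hsd) hp
    have hgM := hR _ hsd g hg
    have hQc : Q (c • (s • d')) = 0 := h.quad_zero (by simp [LinearMap.map_smul_of_tower, hd'])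
    have hgd : g.1 d = d := by
      rw [hg.2.2, hQc, h.polar_smul_left, polar_smul_l', h.eq]
      simp [LinearMap.map_smul_of_tower, h0, h1]
    have hgc : g.1 (c • d) = c • d + (-(s * s * k)) • d' := by
      rw [hg.2.2, hQc, h.polar_smul_smul, polar_smul_l', h.polar_smul_right]
      simp only [LinearMap.map_smul_of_tower, LinearMap.smul_apply, mul_smul_comm, map_smul, h1, smul_eq_mul,
        ← hk, mul_zero, zero_smul, sub_zero, add_zero, zero_mul, smul_smul]
      congr 2
      ring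
    have h3 := (hR d hd).conj hgM
    rw [hgd, hgc] at h3
    have h4 := SiegelIn.neg h.nondegQ hQd (by rw [h.polar_smul_right, hd, mul_zero, map_zero]) (hR d hd)
    have h5 := SiegelIn.add h.nondegQ hQd (by
        rw [polar_add_right, h.polar_smul_right, hd, mul_zero, map_zero, polar_smul_r', hdd', mul_zero, add_zero])
      (by rw [polar_neg_right, h.polar_smul_right, hd, mul_zero, map_zero, neg_zero]) h3 h4
    rwa [add_neg_cancel_comm] at h5
  set p := t / -k with hp
  have h6 := SiegelIn.add h.nondegQ hQd (u := -((p + 1) / 2 * ((p + 1) / 2) * k) • d')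
    (w := -(-((p - 1) / 2 * ((p - 1) / 2) * k) • d'))
    (by rw [polar_smul_r', hdd', mul_zero]) (by rw [polar_neg_right, polar_smul_r', hdd', mul_zero, neg_zero])
    (key _) (SiegelIn.neg h.nondegQ hQd (by rw [polar_smul_r', hdd', mul_zero]) (key _))
  rw [← neg_smul, ← add_smul] at h6
  have e : -((p + 1) / 2 * ((p + 1) / 2) * k) + - -((p - 1) / 2 * ((p - 1) / 2) * k) = t := by
    have h2' := h.two
    rw [hp]; field_simp; ring
  rwa [e] at h6

/-- The orthogonal space of a hyperbolic pair, the line and a part of the partner line. -/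
theorem Setting.wsp_half [Finite F] {c : K} (hR : ∀ d, φ d d = 0 → SiegelIn M d (c • d))
    (hc : c * c ∉ Submodule.span F {(1 : K), c}) {d b : V} (hd : φ d d = 0) (hdb : φ d b = 1) (hbb : φ b b = 0) :
    (∀ e : K, f₀ e = 0 → f₀ (c * e) = 0 → e • b ∈ wsp h.nondegQ M d (h.quad_zero hd)) ∧
      (∀ u, φ d u = 0 → φ b u = 0 → u ∈ wsp h.nondegQ M d (h.quad_zero hd)) ∧
        ∀ k : K, k • d ∈ wsp h.nondegQ M d (h.quad_zero hd) := by
  set W := wsp h.nondegQ M d (h.quad_zero hd)
  obtain ⟨e₀, he₀, he₀c⟩ := exists_scalar_perp h.ne_zero hc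
  have hg0 : f₀ e₀ = 0 := by simpa using he₀ 1 (Submodule.subset_span (by simp))
  have hg1 : f₀ (c * e₀) = 0 := by rw [mul_comm]; exact he₀ c (Submodule.subset_span (by simp))
  have hg2 : f₀ (c * c * e₀) ≠ 0 := by rw [mul_comm, he₀c]; exact one_ne_zero
  have hbd : φ b d = 1 := by rw [h.symm, hdb]
  have gen : ∀ e : K, f₀ e = 0 → f₀ (c * e) = 0 → f₀ (c * c * e) ≠ 0 → ∀ u, φ d u = 0 → φ b u = 0 →
      e • b + u + (-(2⁻¹ * φ u u * e⁻¹)) • d ∈ W := by
    intro e h0 h1 h2 u hdu hbu
    have he : e ≠ 0 := fun e0 => h2 (by simp [e0])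
    have hed : φ (e • b + u + (-(2⁻¹ * φ u u * e⁻¹)) • d) d = e := by
      simp [hbd, h.symm u d, hdu, hd]
    refine h.mem_wsp_of_good hR hd ?_ (by rw [hed, h0]) (by rw [hed, h1]) (by rw [hed]; exact h2)
    simp only [map_add, map_smul, LinearMap.add_apply, LinearMap.smul_apply, smul_eq_mul, hbb, hd, hdb, hbd,
      hdu, hbu, h.symm u b, h.symm u d]
    field_simp [h.twoK]
    ring
  have hU : ∀ u, φ d u = 0 → φ b u = 0 → u ∈ W := fun u hdu hbu => by
    have h1 := gen e₀ hg0 hg1 hg2 u hdu hbu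
    have h2 := gen e₀ hg0 hg1 hg2 (-u) (by simp [hdu]) (by simp [hbu])
    have h3 := W.smul_mem (2⁻¹ : F) (W.sub_mem h1 h2)
    have e : e₀ • b + u + -(2⁻¹ * φ u u * e₀⁻¹) • d - (e₀ • b + -u + -(2⁻¹ * φ (-u) (-u) * e₀⁻¹) • d) =
        (2 : F) • u := by
      rw [two_smul]
      simp only [map_neg, LinearMap.neg_apply, neg_neg]
      abel
    rwa [e, smul_smul, inv_mul_cancel₀ h.two, one_smul] at h3
  have hb : ∀ e : K, f₀ e = 0 → f₀ (c * e) = 0 → e • b ∈ W := by
    have good : ∀ e : K, f₀ e = 0 → f₀ (c * e) = 0 → f₀ (c * c * e) ≠ 0 → e • b ∈ W := fun e h0 h1 h2 => by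
      simpa using gen e h0 h1 h2 0 (by simp) (by simp)
    intro e h0 h1
    by_cases h2 : f₀ (c * c * e) = 0
    · have h3 := W.sub_mem (good (e + e₀) (by rw [map_add, h0, hg0, add_zero])
        (by rw [mul_add, map_add, h1, hg1, add_zero]) (by rwa [mul_add, map_add, h2, zero_add])) (good e₀ hg0 hg1 hg2)
      rwa [← sub_smul, add_sub_cancel_right] at h3
    · exact good e h0 h1 h2
  refine ⟨hb, hU, fun k => ?_⟩
  have he₀0 : e₀ ≠ 0 := fun e0 => hg2 (by simp [e0])
  have hd0 : φ d d = 0 := hd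
  obtain ⟨u, hdu, hbu, huu⟩ := h.exists_value hd0 hbb (by rw [hdb]; exact one_ne_zero) (-(2 * e₀ * k))
  have h1 := W.sub_mem (W.sub_mem (gen e₀ hg0 hg1 hg2 u hdu hbu) (hb e₀ hg0 hg1)) (hU u hdu hbu)
  have e : e₀ • b + u + -(2⁻¹ * φ u u * e₀⁻¹) • d - e₀ • b - u = k • d := by
    have e2 : -(2⁻¹ * φ u u * e₀⁻¹) = k := by rw [huu]; field_simp [h.twoK]
    rw [e2]; abel
  rwa [e] at h1

theorem Setting.span_pair_stable (hr : (finrank F K).Prime) (h3 : 3 ≤ finrank F K) {c : K}
    (hc : ∀ t : F, algebraMap F K t ≠ c) : c * c ∉ Submodule.span F {(1 : K), c} := by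
  intro hmem
  set D := Submodule.span F {(1 : K), c}
  have hst : ∀ x ∈ D, c • x ∈ D := fun x hx => by
    refine Submodule.span_induction (p := fun x _ => c • x ∈ D) ?_ ?_ ?_ ?_ hx
    · rintro x (rfl | rfl)
      · simpa using Submodule.subset_span (show c ∈ ({(1 : K), c} : Set K) by simp)
      · exact hmem
    · simp
    · intro x y _ _ hx hy; rw [smul_add]; exact D.add_mem hx hy
    · intro t x _ hx; rw [smul_comm]; exact D.smul_mem t hx
  have htop : D = ⊤ := eq_top_iff.2 fun x _ => by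
    simpa using smul_mem_of_stable hr hc hst x (x := (1 : K)) (Submodule.subset_span (by simp))
  have h1 : finrank F D ≤ 2 := by
    classical
    have := finrank_span_finset_le_card (R := F) ({(1 : K), c} : Finset K)
    rw [Finset.coe_pair] at this
    exact this.trans Finset.card_le_two
  rw [htop, finrank_top] at h1
  omega

/-- Every parameter at a singular vector, degree at least three. -/
theorem Setting.axis_three [Finite F] (hr : (finrank F K).Prime) (h3 : 3 ≤ finrank F K) {a : V} (ha : φ a a = 0)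
    (ha0 : a ≠ 0) {c : K} (hcF : ∀ t : F, algebraMap F K t ≠ c) (hc : SiegelIn M a (c • a)) {d : V}
    (hd : φ d d = 0) : AxIn M d := by
  rcases eq_or_ne d 0 with rfl | hd0
  · exact AxIn.zero M
  have hc0 : c ≠ 0 := fun e => hcF 0 (by rw [e, map_zero])
  have hciF : ∀ t : F, algebraMap F K t ≠ c⁻¹ := fun t ht => hcF t⁻¹ (by rw [map_inv₀, ht, inv_inv])
  have hR : ∀ x, φ x x = 0 → SiegelIn M x (c • x) := fun x hx => h.roots ha ha0 hc hx
  obtain ⟨b, hdb, hbb⟩ := h.exists_pair hd hd0
  have hn := h.span_pair_stable hr h3 hcF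
  obtain ⟨hb1, hU, hk⟩ := h.wsp_half hR hn hd hdb hbb
  obtain ⟨hb2, -, -⟩ := h.wsp_half (fun x hx => h.roots_inv hc0 hR hx) (h.span_pair_stable hr h3 hciF) hd hdb hbb
  obtain ⟨e₂, he₂, he₂c⟩ := exists_scalar_perp (S := Submodule.span F {(1 : K), c⁻¹}) h.ne_zero (x := c) fun hm => by
    refine hn ?_
    obtain ⟨s, t, hst⟩ := Submodule.mem_span_pair.1 hm
    refine Submodule.mem_span_pair.2 ⟨t, s, ?_⟩
    conv_rhs => arg 1; rw [← hst]
    rw [add_mul, smul_mul_assoc, smul_mul_assoc, one_mul, inv_mul_cancel₀ hc0]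
    abel
  have h20 : f₀ e₂ = 0 := by simpa using he₂ 1 (Submodule.subset_span (by simp))
  have h21 : f₀ (c⁻¹ * e₂) = 0 := by rw [mul_comm]; exact he₂ _ (Submodule.subset_span (by simp))
  intro u g hg
  set W := wsp h.nondegQ M d (h.quad_zero hd)
  suffices hu : u ∈ W by
    have := hu.2 1
    rw [one_smul] at this
    exact this g hg
  set e := φ d u with he
  have he0 : f₀ e = 0 := by rw [← h.eq]; exact hg.2.1
  set w := u - φ b u • d - e • b with hw
  have h1 : e • b ∈ W := by
    have h5 := W.add_mem (hb1 (e - f₀ (c * e) • e₂) (by rw [map_sub, map_smul, h20, smul_zero, sub_zero, he0])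
      (by rw [mul_sub, mul_smul_comm, map_sub, map_smul, mul_comm c e₂, he₂c, smul_eq_mul, mul_one, sub_self]))
      (W.smul_mem (f₀ (c * e)) (hb2 e₂ h20 h21))
    rwa [sub_smul, smul_assoc, sub_add_cancel] at h5
  have h2 : w ∈ W := hU w (by simp [hw, hd, hdb, he]) (by simp [hw, hbb, h.symm b d, hdb])
  have e5 : u = w + φ b u • d + e • b := by rw [hw]; abel
  rw [e5]
  exact W.add_mem (W.add_mem h2 (hk _)) h1

/-- Every parameter at a singular vector, degree two. -/
theorem Setting.axis_two [Finite F] (h2 : finrank F K = 2) {a : V} (ha : φ a a = 0)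
    (ha0 : a ≠ 0) {c₁ : K} (hcF : ∀ t : F, algebraMap F K t ≠ c₁) (hc₁ : SiegelIn M a (c₁ • a)) {d : V}
    (hd : φ d d = 0) : AxIn M d := by
  rcases eq_or_ne d 0 with rfl | hd0
  · exact AxIn.zero M
  haveI : Finite K := Module.finite_of_finite F
  haveI : Fintype K := Fintype.ofFinite K
  have hQa := h.quad_zero ha
  have hn : LinearIndependent F ![(1 : K), c₁] := by
    rw [LinearIndependent.pair_iff' one_ne_zero]
    intro t ht
    exact hcF t (by rw [← ht, Algebra.algebraMap_eq_smul_one])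
  have hspan : ∀ k : K, ∃ p q : F, k = p • (1 : K) + q • c₁ := fun k => by
    have htop := hn.span_eq_top_of_card_eq_finrank (by simp [h2])
    have hk : k ∈ Submodule.span F (Set.range ![(1 : K), c₁]) := htop ▸ Submodule.mem_top
    rw [Matrix.range_cons, Matrix.range_cons, Matrix.range_empty, Set.union_empty, Set.singleton_union] at hk
    obtain ⟨p, q, e⟩ := Submodule.mem_span_pair.1 hk
    exact ⟨p, q, e.symm⟩
  obtain ⟨p, q, hpq⟩ := hspan (c₁ * c₁)
  set c := c₁ - (2⁻¹ * q) • (1 : K) with hc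
  set β := p + (2⁻¹ * q) * (2⁻¹ * q) with hβ
  have hcc : c * c = β • (1 : K) := by
    have hm : (2 : F) * (2⁻¹ * q) = q := by rw [← mul_assoc, mul_inv_cancel₀ h.two, one_mul]
    conv_rhs at hpq => rw [← hm]
    simp only [hc, hβ, Algebra.smul_def, map_add, map_mul, map_ofNat, mul_one] at hpq ⊢
    linear_combination hpq
  have hcF' : ∀ t : F, algebraMap F K t ≠ c := fun t ht => hcF (t + 2⁻¹ * q) (by
    rw [map_add, ht, hc, Algebra.algebraMap_eq_smul_one]; abel)
  have hc0 : c ≠ 0 := fun e => hcF' 0 (by rw [e, map_zero])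
  have hR : ∀ x, φ x x = 0 → SiegelIn M x (c • x) := fun x hx => by
    have hQx := h.quad_zero hx
    have h1 := SiegelIn.add h.nondegQ hQx (u := c₁ • x) (w := (-(2⁻¹ * q)) • x)
      (by rw [h.polar_smul_right, hx, mul_zero, map_zero])
      (by rw [polar_smul_r', h.eq, hx, map_zero, mul_zero]) (h.roots ha ha0 hc₁ hx) (siegelIn_smul_self M hQx _)
    rwa [show c₁ • x + -(2⁻¹ * q) • x = c • x by
      rw [hc, sub_smul, smul_assoc, one_smul, neg_smul, sub_eq_add_neg]] at h1
  obtain ⟨ω, hω, hω1⟩ := exists_scalar_perp h.ne_zero (S := (F ∙ c : Submodule F K)) (x := 1) fun hm => by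
    obtain ⟨t, ht⟩ := Submodule.mem_span_singleton.1 hm
    have ht0 : t ≠ 0 := by rintro rfl; simp at ht
    exact hcF' t⁻¹ (by rw [Algebra.algebraMap_eq_smul_one, ← ht, inv_smul_smul₀ ht0])
  rw [mul_one] at hω1
  have hω0 : f₀ (c * ω) = 0 := by rw [mul_comm]; exact hω c (Submodule.mem_span_singleton_self c)
  have hωne : ω ≠ 0 := fun e => by rw [e, map_zero] at hω1; exact zero_ne_one hω1
  have hdual : ∀ Φ : K, c * ω⁻¹ * Φ = f₀ Φ • c + f₀ (c * Φ) • (1 : K) := by
    intro Φ
    obtain ⟨s, t, hst⟩ := hspan (ω⁻¹ * Φ)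
    set s' := s + t * (2⁻¹ * q) with hs'
    have hst' : ω⁻¹ * Φ = s' • (1 : K) + t • c := by
      rw [hst, hs', hc, smul_sub, smul_smul, add_smul]; abel
    have hΦ : Φ = s' • ω + t • (c * ω) := by
      have := congrArg (fun z => ω * z) hst'
      simp only [← mul_assoc, mul_inv_cancel₀ hωne, one_mul, mul_add, mul_smul_comm, mul_one] at this
      rw [this, mul_comm c ω]
    have e1 : f₀ Φ = s' := by
      rw [hΦ, map_add, map_smul, map_smul, hω1, hω0]; simp
    have e2 : f₀ (c * Φ) = t * β := by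
      rw [hΦ, mul_add, mul_smul_comm, mul_smul_comm, ← mul_assoc, hcc, smul_mul_assoc, one_mul, map_add, map_smul,
        map_smul, map_smul, hω0, hω1]
      simp
    rw [e1, e2, mul_assoc, hst', mul_add, mul_smul_comm, mul_smul_comm, mul_one, hcc, smul_smul]
  -- the parameters orthogonal to a hyperbolic pair
  have hβ0 : β ≠ 0 := fun e => hc0 (by rw [e, zero_smul] at hcc; exact mul_self_eq_zero.1 hcc)
  have hβc : ∀ x : V, c • c • x = β • x := fun x => by rw [smul_smul, hcc, smul_assoc, one_smul]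
  -- the root elements of the line of a singular vector
  have lin : ∀ x, φ x x = 0 → ∀ k : F, ∃ e ∈ M, ∀ z,
      e.1 z = z + k • (polar Q x z • c • x - polar Q (c • x) z • x) := by
    intro x hx k
    have hQx := h.quad_zero hx
    have hQcx : Q (c • x) = 0 := h.quad_zero (by simp [hx])
    have hp : polar Q x (k • c • x) = 0 := by
      rw [polar_smul_r', h.polar_smul_right, hx, mul_zero, map_zero, mul_zero]
    obtain ⟨s, hs⟩ := exists_isSiegel h.nondegQ hQx hp
    refine ⟨s, ?_, fun z => ?_⟩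
    · have hk : SiegelIn M x (k • c • x) := (h.root_mem_wsp hR hx).2 k
      exact hk s hs
    · rw [hs.2.2, quad_smul', hQcx, polar_smul_l']
      simp only [mul_zero, zero_mul, sub_zero]
      module
  -- a root element over `K` as a product of two Siegel elements
  have hX : ∀ {x v : V}, φ x x = 0 → φ x v = 0 → ∀ a b : orthGroup Q, IsSiegel a x (c • v) →
      IsSiegel b (c • x) v → a * b ∈ M := by
    intro x v hx hxv a b ha hb
    obtain ⟨E, hE, hEx⟩ := h.root x ((c * ω⁻¹) • v) hx (by simp [hxv])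
    obtain ⟨N, hN, hNx⟩ := lin x hx (2⁻¹ * f₀ (c * φ v v))
    have heq : a * b = E * N := by
      refine Subtype.ext (LinearEquiv.ext fun z => ?_)
      show a.1 (b.1 z) = E.1 (N.1 z)
      have hvx : φ v x = 0 := by rw [h.symm, hxv]
      have hEfix : ∀ k : K, E.1 (k • x) = k • x := fun k => by rw [hEx]; simp [hx, hvx]
      have hE1 : E.1 x = x := by simpa using hEfix 1
      rw [hNx, map_add, LinearEquiv.map_smul, map_sub, LinearEquiv.map_smul, LinearEquiv.map_smul, hEfix, hE1, hEx,
        ha.2.2, hb.2.2]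
      have q1 : polar Q x v = 0 := by rw [h.eq, hxv, map_zero]
      have q2 : polar Q x (c • x) = 0 := by rw [h.polar_smul_right, hx, mul_zero, map_zero]
      have q3 : polar Q (c • v) (c • x) = 0 := by rw [h.polar_smul_smul, hvx, mul_zero, map_zero]
      have q4 : polar Q (c • v) v = f₀ (c * φ v v) := h.polar_smul_left v v c
      have q5 : Q (c • v) = β * Q v := by
        rw [h.quad_eq, h.quad_eq, show φ (c • v) (c • v) = c * c * φ v v by simp [mul_assoc], hcc, smul_mul_assoc,
          one_mul, map_smul, smul_eq_mul]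
        ring
      have e1 : φ x z • (c * ω⁻¹) • v = polar Q x z • c • v + polar Q (c • x) z • v := by
        rw [smul_smul, mul_comm, hdual, add_smul, smul_assoc, smul_assoc, one_smul, ← h.eq, ← h.polar_smul_left]
      have e2 : φ ((c * ω⁻¹) • v) z • x = polar Q v z • c • x + polar Q (c • v) z • x := by
        rw [map_smul, LinearMap.smul_apply, smul_eq_mul, hdual, add_smul, smul_assoc, smul_assoc, one_smul, ← h.eq,
          ← h.polar_smul_left]
      have e3 : ((2 : K)⁻¹ * φ ((c * ω⁻¹) • v) ((c * ω⁻¹) • v) * φ x z) • x =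
          (2⁻¹ : F) • (((polar Q x z * f₀ (φ v v) * β + polar Q (c • x) z * f₀ (c * φ v v)) : F) • x +
            ((polar Q x z * f₀ (c * φ v v) + polar Q (c • x) z * f₀ (φ v v)) : F) • c • x) := by
        have : (2 : K)⁻¹ * φ ((c * ω⁻¹) • v) ((c * ω⁻¹) • v) * φ x z = (2⁻¹ : F) •
            ((polar Q x z * f₀ (φ v v) * β + polar Q (c • x) z * f₀ (c * φ v v)) • (1 : K) +
              (polar Q x z * f₀ (c * φ v v) + polar Q (c • x) z * f₀ (φ v v)) • c) := by
          rw [show (2 : K)⁻¹ * φ ((c * ω⁻¹) • v) ((c * ω⁻¹) • v) * φ x z =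
              (2 : K)⁻¹ * ((c * ω⁻¹ * φ x z) * (c * ω⁻¹ * φ v v)) by simp; ring,
            hdual, hdual, ← h.eq x z, ← h.polar_smul_left x z c]
          simp only [Algebra.smul_def, map_add, map_mul, map_inv₀, map_ofNat] at hcc ⊢
          simp only [mul_one] at hcc ⊢
          linear_combination ((2 : K)⁻¹ * (algebraMap F K (polar Q x z)) * algebraMap F K (f₀ (φ v v))) * hcc
        rw [this, smul_assoc, add_smul, smul_assoc, smul_assoc, one_smul]
      have hA : Q v = 2⁻¹ * f₀ (φ v v) := h.quad_eq v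
      simp only [polar_add_right, polar_smul_r', q1, q2, q3, q4, q5, mul_zero, add_zero]
      rw [sub_smul (-(φ ((c * ω⁻¹) • v) z)), neg_smul, e1, e2, e3, hA]
      have hh2 := h.twoK
      match_scalars <;> simp [Algebra.cast, map_ofNat] <;> field_simp <;> ring
    rw [heq]
    exact mul_mem hE hN
  -- the line of a singular vector goes to the line of its partner
  have key : ∀ {d b : V}, φ d d = 0 → φ d b = 1 → φ b b = 0 → ∀ v, φ d v = 0 → φ b v = 0 →
      SiegelIn M (ω • b) ((2 * β) • v) := by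
    intro d b hd hdb hbb v hdv hbv g hg
    set b' := ω • b with hb'
    have hb'b' : φ b' b' = 0 := by simp [hb', hbb]
    obtain ⟨n₁, hn₁, hn₁x⟩ := lin d hd β⁻¹
    obtain ⟨n₂, hn₂, hn₂x⟩ := lin b' hb'b' 1
    have p1 : polar Q d b' = 1 := by rw [hb', h.polar_smul_right, hdb, mul_one, hω1]
    have p2 : polar Q d (c • b') = 0 := by
      rw [hb', smul_smul, h.polar_smul_right, hdb, mul_one, hω0]
    have p3 : polar Q (c • d) b' = 0 := by
      rw [hb', h.polar_smul_smul, hdb, mul_one, hω0]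
    have p4 : polar Q (c • d) (c • b') = β := by
      rw [hb', smul_smul, h.polar_smul_smul, hdb, mul_one, ← mul_assoc, hcc, smul_mul_assoc, one_mul, map_smul,
        hω1, smul_eq_mul, mul_one]
    have z1 : polar Q d d = 0 := by rw [h.eq, hd, map_zero]
    have z2 : polar Q (c • d) d = 0 := by rw [h.polar_smul_left, hd, mul_zero, map_zero]
    have z3 : polar Q d (c • d) = 0 := by rw [polar_comm, z2]
    have z4 : polar Q (c • d) (c • d) = 0 := by rw [h.polar_smul_smul, hd, mul_zero, map_zero]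
    have hu : ∀ k : K, polar Q (k • d) v = 0 ∧ polar Q (k • b') v = 0 := fun k =>
      ⟨by rw [h.polar_smul_left, hdv, mul_zero, map_zero],
        by rw [h.polar_smul_left, hb', map_smul, LinearMap.smul_apply, hbv, smul_zero, mul_zero, map_zero]⟩
    set w := n₁ * n₂ * n₁ with hw
    have hwM : w ∈ M := mul_mem (mul_mem hn₁ hn₂) hn₁
    have hwd : w.1 d = c • b' := by
      show n₁.1 (n₂.1 (n₁.1 d)) = _
      rw [hn₁x d, z1, z2]
      simp only [zero_smul, sub_zero, smul_zero, add_zero]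
      rw [hn₂x d, polar_comm _ b' d, p1, polar_comm _ (c • b') d, p2]
      simp only [zero_smul, sub_zero, one_smul]
      rw [map_add, hn₁x d, z1, z2, hn₁x (c • b'), p2, p4]
      simp only [zero_smul, sub_zero, smul_zero, add_zero, zero_sub, smul_neg, smul_smul, inv_mul_cancel₀ hβ0, one_smul]
      abel
    have hwcd : w.1 (c • d) = (-1 : F) • c • c • b' := by
      show n₁.1 (n₂.1 (n₁.1 (c • d))) = _
      rw [hn₁x (c • d), z3, z4]
      simp only [zero_smul, sub_zero, smul_zero, add_zero]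
      rw [hn₂x (c • d), polar_comm _ b' (c • d), p3, polar_comm _ (c • b') (c • d), p4]
      simp only [zero_smul, zero_sub, one_smul]
      rw [map_add, map_neg, LinearEquiv.map_smul, hn₁x (c • d), z3, z4, hn₁x b', p1, p3, hβc]
      simp only [zero_smul, sub_zero, smul_zero, add_zero, one_smul, smul_add, smul_smul, mul_inv_cancel₀ hβ0]
      match_scalars <;> ring
    have hwv : ∀ k : K, w.1 (k • v) = k • v := fun k => by
      have e : ∀ l : K, polar Q (l • d) (k • v) = 0 ∧ polar Q (l • b') (k • v) = 0 := fun l =>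
        ⟨by rw [h.polar_smul_smul, hdv, mul_zero, map_zero],
          by rw [h.polar_smul_smul, hb', map_smul, LinearMap.smul_apply, hbv, smul_zero, mul_zero, map_zero]⟩
      have f1 : n₁.1 (k • v) = k • v := by
        rw [hn₁x, show polar Q d (k • v) = 0 by simpa using (e 1).1, (e c).1]; simp
      have f2 : n₂.1 (k • v) = k • v := by
        rw [hn₂x, show polar Q b' (k • v) = 0 by simpa using (e 1).2, (e c).2]; simp
      show n₁.1 (n₂.1 (n₁.1 (k • v))) = _
      rw [f1, f2, f1]
    have hwv1 : w.1 v = v := by simpa using hwv 1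
    -- the two products
    set B := c • b' with hB
    have hBB : φ B B = 0 := by simp [hB, hb'b']
    have hBv : φ B v = 0 := by simp [hB, hb', hbv]
    have hQd := h.quad_zero hd
    have hQB := h.quad_zero hBB
    have hQcd : Q (c • d) = 0 := h.quad_zero (by simp [hd])
    have hQcB : Q (c • B) = 0 := h.quad_zero (by simp [hBB])
    obtain ⟨a₁, ha₁⟩ := exists_isSiegel h.nondegQ hQd (u := c • v)
      (by rw [h.polar_smul_right, hdv, mul_zero, map_zero])
    obtain ⟨b₁, hb₁⟩ := exists_isSiegel h.nondegQ hQcd (u := v) (hu c).1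
    obtain ⟨a₂, ha₂⟩ := exists_isSiegel h.nondegQ hQB (u := c • v)
      (by rw [h.polar_smul_right, hBv, mul_zero, map_zero])
    obtain ⟨b₂, hb₂⟩ := exists_isSiegel h.nondegQ hQcB (u := v) (by rw [h.polar_smul_left, hBv, mul_zero, map_zero])
    have hc1 := ha₁.conj w
    rw [hwd, hwv] at hc1
    have hc2 := hb₁.conj w
    rw [hwcd, hwv1] at hc2
    have hc2' := hc2.of_smul (neg_ne_zero.2 one_ne_zero)
    rw [neg_one_smul] at hc2'
    have ea : w * a₁ * w⁻¹ = a₂ := hc1.unique ha₂
    have eb : w * b₁ * w⁻¹ = b₂⁻¹ := hc2'.unique (IsSiegel.inv' h.nondegQ hb₂)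
    have hm1 : a₂ * b₂⁻¹ ∈ M := by
      have := mul_mem (mul_mem hwM (hX hd hdv _ _ ha₁ hb₁)) (inv_mem hwM)
      rwa [show w * (a₁ * b₁) * w⁻¹ = w * a₁ * w⁻¹ * (w * b₁ * w⁻¹) by group, ea, eb] at this
    have hm2 := hX hBB hBv _ _ ha₂ hb₂
    have hsq : b₂ * b₂ ∈ M := by
      have := mul_mem (inv_mem hm1) hm2
      rwa [show (a₂ * b₂⁻¹)⁻¹ * (a₂ * b₂) = b₂ * b₂ by group] at this
    have h5 := hb₂.mul hb₂
    rw [hB, hβc] at h5
    have h6 := h5.of_smul hβ0
    rw [← two_smul F v, smul_smul, mul_comm β 2] at h6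
    rw [hg.unique h6]
    exact hsq
  have hU : ∀ {d b : V} (hd : φ d d = 0), φ d b = 1 → φ b b = 0 → ∀ u, φ d u = 0 → φ b u = 0 →
      u ∈ wsp h.nondegQ M d (h.quad_zero hd) := by
    intro d b hd hdb hbb u hdu hbu
    refine ⟨by rw [h.eq, hdu, map_zero], fun t => ?_⟩
    have h1 := key (d := ω • b) (b := ω⁻¹ • d) (by simp [hbb]) (by simp [h.symm b d, hdb, hωne])
      (by simp [hd]) (((2 * β)⁻¹ * t) • u) (by simp [LinearMap.map_smul_of_tower, hbu])
      (by simp [LinearMap.map_smul_of_tower, hdu])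
    rwa [smul_smul ω, mul_inv_cancel₀ hωne, one_smul, smul_smul, ← mul_assoc,
      mul_inv_cancel₀ (mul_ne_zero h.two hβ0), one_mul] at h1
  obtain ⟨b, hdb, hbb⟩ := h.exists_pair hd hd0
  set W := wsp h.nondegQ M d (h.quad_zero hd)
  have hcd : c • d ∈ W := h.root_mem_wsp hR hd
  have hkd : ∀ k : K, k • d ∈ W := fun k => by
    obtain ⟨s, t, hst⟩ := hspan k
    have hc₁' : c₁ = c + (2⁻¹ * q) • (1 : K) := by rw [hc, sub_add_cancel]
    rw [hst, hc₁', smul_add, smul_smul, ← add_assoc, add_smul, add_smul, smul_assoc, smul_assoc, smul_assoc,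
      one_smul]
    exact W.add_mem (W.add_mem (W.smul_mem _ (h.smul_self_mem_wsp hd)) (W.smul_mem _ hcd))
      (W.smul_mem _ (h.smul_self_mem_wsp hd))
  set e₀ := ω * c⁻¹ with he₀def
  have he₀0 : e₀ ≠ 0 := mul_ne_zero hωne (inv_ne_zero hc0)
  have hgen : ∀ e : K, f₀ e = 0 → e = f₀ (c * e) • e₀ := fun e he0 => by
    have h5 := hdual e
    rw [he0, zero_smul, zero_add] at h5
    have h6 : e = ω * c⁻¹ * (c * ω⁻¹ * e) := by field_simp
    conv_lhs => rw [h6, h5, mul_smul_comm, mul_one]
  have he₀ : f₀ e₀ = 0 := by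
    have hβ0 : β ≠ 0 := fun e => hc0 (by rw [e, zero_smul] at hcc; exact mul_self_eq_zero.1 hcc)
    have h6 : e₀ = β⁻¹ • (c * ω) := by
      rw [he₀def, eq_inv_smul_iff₀ hβ0, ← mul_one c, ← smul_mul_assoc, mul_comm]
      field_simp
      rw [pow_two, hcc]
      simp [Algebra.smul_def, mul_comm]
    rw [h6, map_smul, hω0, smul_zero]
  have heb : e₀ • b ∈ W := by
    obtain ⟨u, hdu, hbu, huu⟩ := h.exists_value hd hbb (by rw [hdb]; exact one_ne_zero) (1 : K)
    set x := e₀ • b with hx
    have hxx : φ x x = 0 := by simp [hx, hbb]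
    have hxd : φ x d = e₀ := by simp [hx, h.symm b d, hdb]
    -- an element of `M` moving `c • u` along `x`
    obtain ⟨w, hw⟩ := exists_scalar h.ne_zero (c * φ u u) (mul_ne_zero hc0 (by rw [huu]; exact one_ne_zero)) (1 : F)
    set y := w • u with hy
    have hxd' : φ x (e₀⁻¹ • d) = 1 := by rw [map_smul, hxd, smul_eq_mul, inv_mul_cancel₀ he₀0]
    have hxy : φ x y = 0 := by simp [hx, hy, hbu]
    have hdy : φ d y = 0 := by simp [hy, hdu]
    have hyW : y ∈ wsp h.nondegQ M x (h.quad_zero hxx) :=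
      hU hxx hxd' (by simp [hd]) y hxy (by simp [hdy])
    obtain ⟨s, hs⟩ := exists_isSiegel h.nondegQ (h.quad_zero hxx) (show polar Q x y = 0 by rw [h.eq, hxy, map_zero])
    have hsM : s ∈ M := by
      have := hyW.2 1
      rw [one_smul] at this
      exact this s hs
    have hsd : s.1 d = d := by
      rw [hs.2.2, h.eq x d, hxd, he₀, h.eq y d, h.symm y d, hdy, map_zero]
      simp
    have hscu : s.1 (c • u) = c • u - x := by
      have h1 : polar Q x (c • u) = 0 := by rw [h.polar_smul_right]; simp [hx, hbu]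
      have h2 : polar Q y (c • u) = 1 := by
        rw [hy, h.polar_smul_smul, mul_assoc, hw]
      rw [hs.2.2, h1, h2]
      simp [sub_eq_add_neg]
    have hcu : c • u ∈ W := hU hd hdb hbb (c • u) (by simp [hdu]) (by simp [hbu])
    have hcu' : ∀ t : F, SiegelIn M d (t • (c • u - x)) := fun t => by
      have := (hcu.2 t).conj hsM
      rwa [hsd, s.1.map_smul, hscu] at this
    have hdx : polar Q d x = 0 := by rw [polar_comm, h.eq, hxd, he₀]
    have hmem : c • u - x ∈ W := ⟨by rw [polar_sub_right, hdx, hcu.1, sub_zero], hcu'⟩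
    have h3 := W.sub_mem hcu hmem
    rwa [sub_sub_cancel] at h3
  intro v g hg
  suffices hv : v ∈ W by
    have := hv.2 1
    rw [one_smul] at this
    exact this g hg
  set e := φ d v with he
  have he0 : f₀ e = 0 := by rw [← h.eq]; exact hg.2.1
  set w := v - φ b v • d - e • b with hw
  have h2' : w ∈ W :=
    hU hd hdb hbb w (by simp [hw, hd, hdb, he]) (by simp [hw, hbb, h.symm b d, hdb])
  have e5 : v = w + φ b v • d + e • b := by rw [hw]; abel
  rw [e5]
  refine W.add_mem (W.add_mem h2' (hkd _)) ?_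
  rw [hgen e he0, smul_assoc]
  exact W.smul_mem _ heb

/-- All singular Siegel elements. -/
theorem Setting.omega_le [Finite F] (hr : (finrank F K).Prime)
    (h4 : Good F V) (h5 : 5 ≤ finrank F V) {g : orthGroup Q} (hg : g ∈ M)
    (hne : ∃ x, ∃ k : K, g.1 (k • x) ∉ line F K (g.1 x)) : commutator (orthGroup Q) ≤ M := by
  haveI : Fintype F := Fintype.ofFinite F
  have hnQ := h.nondegQ
  obtain ⟨g₁, a, hc₁⟩ := h.exists_cfg hg hne
  obtain ⟨g₂, hc₂, hd₂, hp₂⟩ := h.exists_final hr hc₁
  obtain ⟨c, hcF, hroot⟩ := h.exists_root hc₂ hd₂ hp₂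
  have hax : ∀ d, φ d d = 0 → AxIn M d := fun d hd => by
    by_cases h2 : finrank F K = 2
    · exact h.axis_two h2 hc₁.sing hc₁.ne hcF hroot hd
    · exact h.axis_three hr (by have := hr.two_le; omega) hc₁.sing hc₁.ne hcF hroot hd
  obtain ⟨hp⟩ := exists_hypPairs hnQ h5
  rw [commutator_eq_siegelGroup hnQ h4 hp h5]
  have hex : ∀ y : V, y ≠ 0 → ∃ r, φ r r = 0 ∧ polar Q r y ≠ 0 := by
    intro y hy
    by_contra hno
    push Not at hno
    have hperp : ∀ d, φ d d = 0 → φ d y = 0 := fun d hd => by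
      rw [h.symm]
      refine h.phi_eq_zero fun k => ?_
      rw [polar_comm]
      exact hno _ (by simp [hd])
    obtain ⟨b, hab, hbb⟩ := h.exists_pair hc₁.sing hc₁.ne
    have hay := hperp a hc₁.sing
    have hby := hperp b hbb
    refine hy (h.nondeg y fun z => ?_)
    set w := z - φ b z • a - φ a z • b with hw
    have haw : φ a w = 0 := by simp [hw, hc₁.sing, hab]
    have hbw : φ b w = 0 := by simp [hw, hbb, h.symm b a, hab]
    have hs := hperp (a + w - (2⁻¹ * φ w w) • b) (by
      simp only [map_add, map_sub, map_smul, LinearMap.add_apply, LinearMap.sub_apply, LinearMap.smul_apply,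
        smul_eq_mul, hc₁.sing, hab, hbb, haw, hbw, h.symm w a, h.symm w b, h.symm b a]
      field_simp [h.twoK]
      ring)
    simp only [map_add, map_sub, map_smul, LinearMap.add_apply, LinearMap.sub_apply, LinearMap.smul_apply, hay,
      hby, smul_zero, zero_add, sub_zero] at hs
    have e : z = w + φ b z • a + φ a z • b := by rw [hw]; abel
    rw [e, map_add, map_add, map_smul, map_smul, h.symm y w, hs, h.symm y a, hay, h.symm y b, hby]
    simp
  refine siegelGroup_le_of_ax fun y hy => ?_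
  rcases eq_or_ne y 0 with rfl | hy0
  · exact AxIn.zero M
  obtain ⟨r, hr0, hry⟩ := hex y hy0
  obtain ⟨d, hd0, hdr⟩ := hex r fun e => hry (by rw [e, polar_zero_left])
  exact ax_move hnQ (hax r hr0) (h.quad_zero hr0) (h.quad_zero hd0) hy
    (by rw [polar_comm]; exact hdr) hry (hax d hd0)

end CfsgLib.Classical.FieldExtOrth
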