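import Cfsg.Prelude.Def_GeometricClasses
import Cfsg.Agent.Lib.Classical.FieldExtMax.Matrix
import Cfsg.Agent.Lib.Classical.FieldExtOrth.Top
import Cfsg.Agent.Lib.Classical.OrthMaxPair
import Cfsg.Agent.Lib.Orth.Similitude

/-!
# Orthogonal groups over extension fields of prime degree are maximal in orthogonal groups, odd characteristic
-/

set_option autoImplicit false
set_option linter.unusedSectionVars false
set_option backward.isDefEq.respectTransparency false

namespace CfsgLib.Classical.FieldExtOrth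

open Module QuadraticMap CfsgLib.Orth CfsgLib.Classical CfsgLib.Classical.FieldExtMax
open scoped MatrixGroups

variable {F : Type*} [Field F] [Fintype F] {ι : Type} [Fintype ι] [DecidableEq ι] {Qf : (ι → F) → F} {r : ℕ}
  {K : Subalgebra F (Matrix ι ι F)}

/-- A square root inside the orthogonal group puts a Siegel element in the commutator subgroup. -/
theorem siegel_mem_commutator {V : Type*} [AddCommGroup V] [Module F V] [FiniteDimensional F V]
    {Q : QuadraticForm F V} (hQ : (QuadraticMap.polarBilin Q).Nondegenerate) (h2 : (2 : F) ≠ 0) {d u : V}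
    {g : orthGroup Q} (hg : IsSiegel g d u) : g ∈ commutator (orthGroup Q) := by
  obtain ⟨s, hs⟩ := exists_isSiegel hQ hg.1
    (show polar Q d ((2⁻¹ : F) • u) = 0 by rw [polar_smul_r', hg.2.1, mul_zero])
  have h := hs.mul hs
  rw [← add_smul, show (2⁻¹ : F) + 2⁻¹ = 1 by rw [← two_mul, mul_inv_cancel₀ h2], one_smul] at h
  rw [hg.unique h]
  exact sq_mem_commutator hQ (good_of_two_ne h2) s

theorem dvd_of_isField (hK : Cfsg.Geo.IsFieldSubalgebra r K) (hr : r.Prime) : r ∣ Fintype.card ι := by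
  classical
  rcases isEmpty_or_nonempty ι with hι | hι
  · simp
  have hfield : IsField K := ⟨⟨0, 1, zero_ne_one⟩, fun a b => Subtype.ext (hK.comm _ a.2 _ b.2), fun {a} ha => by
      obtain ⟨y, hy, h⟩ := hK.inv a.1 a.2 fun h => ha (Subtype.ext h)
      exact ⟨⟨y, hy⟩, Subtype.ext h⟩⟩
  letI : Field K := hfield.toField
  letI : Module K (ι → F) := Module.compHom (ι → F)
    ((Matrix.toLinAlgEquiv' : Matrix ι ι F ≃ₐ[F] _).toAlgHom.comp K.val).toRingHom
  haveI : IsScalarTower F K (ι → F) := ⟨fun c k x => by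
    show (Matrix.toLinAlgEquiv' (c • k.1)) x = c • (Matrix.toLinAlgEquiv' k.1) x
    rw [map_smul]; rfl⟩
  have h := finrank_mul_finrank F K (ι → F)
  rw [Module.finrank_pi] at h
  have hfin : finrank F K = r := hK.finrank_eq
  exact ⟨finrank K (ι → F), by rw [← hfin, h]⟩

theorem omega_isMaximal' (hQ : Cfsg.Geo.IsNondegenerateQuadraticForm Qf) (h2 : (2 : F) ≠ 0)
    (hr : r.Prime) (hK : Cfsg.Geo.IsFieldSubalgebra r K) (hsa : Cfsg.Geo.IsSelfAdjointFor (QuadraticMap.polar Qf) K)
    (hm : 4 * r ≤ Fintype.card ι) :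
    Cfsg.Geo.IsMaximalIn (Cfsg.Geo.omegaGL Qf) (Cfsg.Geo.subalgebraNormalizer K ⊓ Cfsg.Geo.omegaGL Qf) := by
  classical
  obtain ⟨Q, hQf, hnd⟩ := exists_quadOf hQ
  haveI : Nonempty ι := Fintype.card_pos_iff.1 (by have := hr.two_le; omega)
  have hfield : IsField K := ⟨⟨0, 1, zero_ne_one⟩, fun a b => Subtype.ext (hK.comm _ a.2 _ b.2),
    fun {a} ha => by
      obtain ⟨y, hy, h⟩ := hK.inv a.1 a.2 fun h => ha (Subtype.ext h)
      exact ⟨⟨y, hy⟩, Subtype.ext h⟩⟩
  letI : Field K := hfield.toField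
  letI : Module K (ι → F) := Module.compHom (ι → F)
    ((Matrix.toLinAlgEquiv' : Matrix ι ι F ≃ₐ[F] _).toAlgHom.comp K.val).toRingHom
  have hsmul : ∀ (k : K) (x : ι → F), k • x = Matrix.mulVec k.1 x := fun k x => Matrix.toLinAlgEquiv'_apply k.1 x
  haveI : IsScalarTower F K (ι → F) := ⟨fun c k x => by
    rw [hsmul, hsmul]
    exact Matrix.smul_mulVec c k.1 x⟩
  haveI : FiniteDimensional F K := Module.finite_of_finrank_pos (by
    have : Module.finrank F K = r := hK.finrank_eq
    rw [this]; exact hr.pos)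
  haveI : FiniteDimensional K (ι → F) := Module.Finite.of_restrictScalars_finite F K (ι → F)
  have hfin : finrank F K = r := hK.finrank_eq
  have hBk : ∀ (k : K) x y, polar Q (k • x) y = polar Q x (k • y) := fun k x y => by
    rw [hsmul, hsmul]
    simpa only [QuadraticMap.polar, hQf] using hsa k.1 k.2 x y
  obtain ⟨f₀, hf₀'⟩ := exists_f₀ (F := F) (K := K)
  have hf₀ : f₀ ≠ 0 := fun h => by simp [h] at hf₀'
  have huniq : ∀ a b : K, (∀ l : K, f₀ (l * a) = f₀ (l * b)) → a = b := fun a b h => by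
    by_contra hne
    obtain ⟨l, hl⟩ := exists_scalar hf₀ _ (sub_ne_zero.2 hne) (1 : F)
    rw [mul_sub, map_sub, h, sub_self] at hl
    exact zero_ne_one hl
  have hlift : ∀ x, ∃ ψ : (ι → F) →ₗ[K] K, ∀ y, (QuadraticMap.polarBilin Q) x y = f₀ (ψ y) := fun x =>
    exists_lift hf₀ _
  choose ψ hψ using hlift
  have hψk : ∀ (l : K) x y, f₀ (l * ψ x y) = polar Q x (l • y) := fun l x y => by
    rw [← QuadraticMap.polarBilin_apply_apply, hψ, map_smul, smul_eq_mul]
  let φ : (ι → F) →ₗ[K] (ι → F) →ₗ[K] K :=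
    { toFun := ψ
      map_add' := fun x x' => LinearMap.ext fun y => huniq _ _ fun l => by
        rw [LinearMap.add_apply, mul_add, map_add, hψk, hψk, hψk, polar_add_left]
      map_smul' := fun k x => LinearMap.ext fun y => huniq _ _ fun l => by
        rw [RingHom.id_apply, LinearMap.smul_apply, smul_eq_mul, ← mul_assoc, hψk, hψk, hBk, smul_smul, mul_comm k] }
  have hφ : ∀ x y, polar Q x y = f₀ (φ x y) := fun x y => by
    rw [← QuadraticMap.polarBilin_apply_apply, hψ]; rfl
  have hsym : ∀ x y, φ x y = φ y x := fun x y => huniq _ _ fun l => by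
    show f₀ (l * ψ x y) = f₀ (l * ψ y x)
    rw [hψk, hψk, ← hBk, polar_comm]
  have hφN : ∀ x, (∀ y, φ x y = 0) → x = 0 := fun x hx => hnd.1 x fun y => by
    rw [QuadraticMap.polarBilin_apply_apply, hφ, hx y, map_zero]
  have hprod := finrank_mul_finrank F K (ι → F)
  rw [hfin, Module.finrank_pi] at hprod
  have hdim : 4 ≤ finrank K (ι → F) := by
    by_contra hlt
    have : r * finrank K (ι → F) ≤ r * 3 := Nat.mul_le_mul_left r (by omega)
    have := hr.two_le
    omega
  set N := Cfsg.Geo.subalgebraNormalizer K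
  have hmv : ∀ (g : orthGroup Q) x, Matrix.mulVec ((orthToGL Q hQf g : GL ι F) : Matrix ι ι F) x = g.1 x :=
    fun g x => by
      have h := LinearMap.congr_fun (toLin'_orthToGL Q hQf g) x
      rwa [Matrix.toLin'_apply] at h
  have hmemN : ∀ g : orthGroup Q, orthToGL Q hQf g ∈ N ↔ ∀ k : K, ∃ k' : K, ∀ x, g.1 (k • x) = k' • g.1 x :=
    fun g => by
      rw [FieldExtMax.mem_normalizer_iff]
      simp only [hmv, hsmul]
  have h2K : (2 : K) ≠ 0 := fun e => h2 ((algebraMap F K).injective (by rw [map_ofNat, map_zero]; exact e))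
  let Qφ : QuadraticForm K (ι → F) := (2⁻¹ : K) • LinearMap.BilinMap.toQuadraticMap φ
  have hQφ : ∀ x, Qφ x = 2⁻¹ * φ x x := fun x => rfl
  have hpolφ : ∀ x y, polar Qφ x y = φ x y := fun x y => by
    simp only [QuadraticMap.polar, hQφ, map_add, LinearMap.add_apply, hsym y x]
    field_simp
    ring
  have hndφ : (QuadraticMap.polarBilin Qφ).Nondegenerate :=
    nondegenerate_of_left (Q := Qφ) fun x hx => hφN x fun y => by rw [← hpolφ]; exact hx y
  have hquad : ∀ x, Q x = 2⁻¹ * f₀ (φ x x) := fun x => by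
    rw [← hφ, polar_self', ← mul_assoc, inv_mul_cancel₀ h2, one_mul]
  -- the Siegel elements over `K`
  have hroot : ∀ d u, φ d d = 0 → φ d u = 0 → ∃ e : orthGroup Q, e ∈ commutator (orthGroup Q) ∧
      orthToGL Q hQf e ∈ N ∧
      ∀ x, e.1 x = x + φ d x • u + (-(φ u x) - (2 : K)⁻¹ * φ u u * φ d x) • d := by
    intro d u hd hu
    obtain ⟨s, hs⟩ := exists_isSiegel hndφ (show Qφ d = 0 by rw [hQφ, hd, mul_zero])
      (show polar Qφ d ((2⁻¹ : K) • u) = 0 by rw [polar_smul_r', hpolφ, hu, mul_zero])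
    let t : orthGroup Q := ⟨s.1.restrictScalars F, fun x => by
      show Q (s.1 x) = Q x
      rw [hquad, hquad]
      have h1 : Qφ (s.1 x) = Qφ x := s.2 x
      rw [hQφ, hQφ] at h1
      rw [mul_left_cancel₀ (inv_ne_zero h2K) h1]⟩
    have h := hs.mul hs
    rw [← add_smul, show (2⁻¹ : K) + 2⁻¹ = 1 by rw [← two_mul, mul_inv_cancel₀ h2K], one_smul] at h
    have htt : ∀ x, (t * t).1 x = (s * s).1 x := fun x => rfl
    refine ⟨t * t, sq_mem_commutator hnd (good_of_two_ne h2) t, (hmemN _).2 fun k => ⟨k, fun x => ?_⟩, fun x => ?_⟩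
    · rw [htt, htt]; exact (s * s).1.map_smul k x
    · rw [htt, h.2.2, hpolφ, hpolφ, hQφ]
  have hset : ∀ M : Subgroup (orthGroup Q),
      (∀ y ∈ commutator (orthGroup Q), orthToGL Q hQf y ∈ N → y ∈ M) → Setting Q φ f₀ M := fun M hM =>
    ⟨h2, hsym, hφN, hf₀, hφ, hdim, fun d u hd hu => by
      obtain ⟨e, he, heN, hex⟩ := hroot d u hd hu
      exact ⟨e, hM e he heN, hex⟩⟩
  refine omega_isMaximalIn_inf Q hQf N ?_ fun M hM g hgM _ hgN => ?_
  · -- a root element of the orthogonal group over `F` that is not semilinear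
    have h := hset ⊤ fun _ _ _ => trivial
    obtain ⟨a, ha0, ha⟩ := h.exists_singular
    obtain ⟨b, hab, -⟩ := h.exists_pair ha ha0
    obtain ⟨c, hc⟩ : ∃ c : K, c ∉ Submodule.span F {(1 : K)} := by
      by_contra hall
      push Not at hall
      have h1 : Submodule.span F {(1 : K)} = ⊤ := eq_top_iff.2 fun x _ => hall x
      have h3 := finrank_span_singleton (K := F) (one_ne_zero : (1 : K) ≠ 0)
      rw [h1, finrank_top, hfin] at h3
      exact hr.one_lt.ne' h3
    obtain ⟨e, he1, he2⟩ := exists_scalar_perp hf₀ (S := Submodule.span F {c}) (x := (1 : K)) fun hm => by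
      obtain ⟨t, ht⟩ := Submodule.mem_span_singleton.1 hm
      have ht0 : t ≠ 0 := by rintro rfl; simp at ht
      exact hc (Submodule.mem_span_singleton.2 ⟨t⁻¹, by rw [← ht, inv_smul_smul₀ ht0]⟩)
    obtain ⟨e', he1', he2'⟩ := exists_scalar_perp hf₀ (S := Submodule.span F {(1 : K)}) hc
    have he3 : f₀ (c * e) = 0 := by rw [mul_comm]; exact he1 c (Submodule.mem_span_singleton_self c)
    have he3' : f₀ e' = 0 := by simpa using he1' 1 (Submodule.mem_span_singleton_self 1)
    rw [mul_one] at he2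
    rw [mul_comm] at he2'
    obtain ⟨g, hg⟩ := exists_isSiegel hnd (h.quad_zero ha)
      (show polar Q a (c • a) = 0 by rw [h.polar_smul_right, ha, mul_zero, map_zero])
    refine ⟨g, siegel_mem_commutator hnd h2 hg, fun hgN => ?_⟩
    have hQc : Q (c • a) = 0 := h.quad_zero (by simp [ha])
    have hgx : ∀ k : K, g.1 (k • b) = k • b + (f₀ k • c - f₀ (c * k) • (1 : K)) • a := fun k => by
      rw [hg.2.2, hQc, h.polar_smul_right, h.polar_smul_smul, hab, mul_one, mul_one, zero_mul, sub_zero,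
        sub_smul, smul_assoc, smul_assoc, one_smul, neg_smul, sub_eq_add_neg, add_assoc]
    have hga : ∀ k : K, g.1 (k • a) = k • a := fun k => by
      rw [hg.2.2, hQc, h.polar_smul_right, h.polar_smul_smul, ha]; simp
    -- the element is linear over `K`
    have hlin : ∀ k : K, ∀ x, g.1 (k • x) = k • g.1 x := fun k => by
      obtain ⟨k', hk'⟩ := (hmemN g).1 hgN k
      have h1 := hk' a
      rw [hga, show g.1 a = a by simpa using hga 1] at h1
      rwa [← smul_left_injective K ha0 h1] at hk'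
    have h1 := hlin e' ((1 : K) • b)
    have h1' := hlin e ((1 : K) • b)
    rw [smul_smul, mul_one, hgx, hgx, he3', he2', smul_add, smul_smul, smul_smul, mul_one] at h1
    rw [smul_smul, mul_one, hgx, hgx, he2, he3, smul_add, smul_smul, smul_smul, mul_one] at h1'
    have e1 := smul_left_injective K ha0 (add_left_cancel h1)
    have e1' := smul_left_injective K ha0 (add_left_cancel h1')
    simp only [zero_smul, one_smul, zero_sub, sub_zero] at e1 e1'
    have he0 : e ≠ 0 := fun h0 => by rw [h0, map_zero] at he2; exact zero_ne_one he2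
    have e3 : c * e' = -e := by
      refine mul_left_cancel₀ (show f₀ (1 : K) • c - f₀ (c * 1) • (1 : K) ≠ 0 from fun h0 => by
        rw [mul_one] at h0 e1
        rw [h0, mul_zero] at e1
        exact neg_ne_zero.2 one_ne_zero e1) ?_
      linear_combination (-(c : K)) * e1 - e1'
    rw [e3, map_neg, he2] at he2'
    exact h2 (by linear_combination (-1 : F) * he2')
  · have h := hset M hM
    refine h.omega_le (hfin ▸ hr) (good_of_two_ne h2)
      (by rw [Module.finrank_pi]; have := hr.two_le; omega) hgM ?_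
    · by_contra hall
      push Not at hall
      refine hgN ((hmemN g).2 fun k => ?_)
      obtain ⟨k', hk'⟩ := semilinear_of_lines (by omega) g.1 hall k
      exact ⟨k', hk'⟩

/-- The same, with the former bound. -/
theorem omega_isMaximal (hQ : Cfsg.Geo.IsNondegenerateQuadraticForm Qf) (h2 : (2 : F) ≠ 0)
    (hr : r.Prime) (hK : Cfsg.Geo.IsFieldSubalgebra r K) (hsa : Cfsg.Geo.IsSelfAdjointFor (QuadraticMap.polar Qf) K)
    (hm : 4 * r ≤ Fintype.card ι) (_h7 : r = 2 → 14 ≤ Fintype.card ι) :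
    Cfsg.Geo.IsMaximalIn (Cfsg.Geo.omegaGL Qf) (Cfsg.Geo.subalgebraNormalizer K ⊓ Cfsg.Geo.omegaGL Qf) :=
  omega_isMaximal' hQ h2 hr hK hsa hm

end CfsgLib.Classical.FieldExtOrth
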