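import Cfsg.Agent.Lib.Classical.FieldExtOrth.Config

/-!
# A Siegel element of a singular line in an overgroup
-/

set_option autoImplicit false
set_option linter.unusedSectionVars false

namespace CfsgLib.Classical.FieldExtOrth

open Module QuadraticMap CfsgLib.Orth CfsgLib.Classical CfsgLib.Classical.FieldExtMax

variable {F K V : Type*} [Field F] [Field K] [Algebra F K] [AddCommGroup V] [Module F V] [Module K V]
  [IsScalarTower F K V] [FiniteDimensional F K] [FiniteDimensional K V] [FiniteDimensional F V]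
  {Q : QuadraticForm F V} {φ : V →ₗ[K] V →ₗ[K] K} {f₀ : K →ₗ[F] F} {M : Subgroup (orthGroup Q)}

theorem IsSiegel.inv' (hQ : (QuadraticMap.polarBilin Q).Nondegenerate) {g : orthGroup Q} {d u : V}
    (hg : IsSiegel g d u) : IsSiegel g⁻¹ d (-u) := by
  obtain ⟨t, ht⟩ := exists_isSiegel hQ hg.1 (show polar Q d (-u) = 0 by rw [polar_neg_right, hg.2.1, neg_zero])
  have h0 : IsSiegel (t * g) d (-u + u) := ht.mul hg
  rw [neg_add_cancel] at h0
  rwa [← eq_inv_of_mul_eq_one_left (h0.unique (isSiegel_one hg.1))]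

variable (h : Setting Q φ f₀ M)
include h

/-- The vectors orthogonal to a hyperplane `a^⊥` lie in the line of `a`. -/
theorem Setting.mem_line_of_perp {a w : V} (hw : ∀ z, φ a z = 0 → polar Q w z = 0) : w ∈ line F K a := by
  by_contra hmem
  have hmem' : w ∉ (K ∙ a : Submodule K V) := hmem
  obtain ⟨c, hc, hcw⟩ := h.exists_vec hmem'
  obtain ⟨k, hk⟩ := exists_scalar h.ne_zero (1 : K) one_ne_zero (1 : F)
  have h1 := hw (k • c) (by simp [h.symm a c, hc a (Submodule.mem_span_singleton_self a)])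
  rw [h.polar_smul_right, h.symm, hcw, hk] at h1
  exact one_ne_zero h1

/-- Commuting out the part that fixes `a^⊥`. -/
theorem Setting.comm_mem {a u : V} (ha : φ a a = 0) (hu : φ a u = 0) {E e' e₀ : orthGroup Q} (hE : E ∈ M)
    (hEx : ∀ x, E.1 x = x + φ a x • u + (-(φ u x) - (2 : K)⁻¹ * φ u u * φ a x) • a) (he' : e' ∈ M)
    (hfix : ∀ z, φ a z = 0 → (e' * e₀⁻¹).1 z = z) {w : V} (hw : φ a w = 0)
    (hS : IsSiegel (E * e₀ * E⁻¹ * e₀⁻¹) a w) : SiegelIn M a w := by
  intro g hg
  set c := e' * e₀⁻¹ with hc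
  have hEL : ∀ k : K, E.1 (k • a) = k • a := fun k => by
    rw [hEx]; simp [ha, h.symm u a, hu]
  have hcomm : E * c = c * E := by
    refine Subtype.ext (LinearEquiv.ext fun x => ?_)
    show E.1 (c.1 x) = c.1 (E.1 x)
    obtain ⟨k, hk⟩ : ∃ k : K, k • a = c.1 x - x := mem_line.1 (h.mem_line_of_perp fun z hz => by
      rw [polar_sub_left]
      conv_lhs => arg 1; rw [← hfix z hz, polar_isom]
      rw [sub_self])
    have hcx : c.1 x = x + k • a := by rw [hk]; abel
    have hd : φ a (E.1 x - x) = 0 := by rw [hEx]; simp [hu, ha]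
    have hEx' : c.1 (E.1 x) = c.1 x + (E.1 x - x) := by
      conv_lhs => rw [show E.1 x = x + (E.1 x - x) by abel]
      rw [map_add, hfix _ hd]
    rw [hEx', hcx, map_add, hEL]
    abel
  have hmem : E * e' * E⁻¹ * e'⁻¹ ∈ M := mul_mem (mul_mem (mul_mem hE he') (inv_mem hE)) (inv_mem he')
  have he : e' = c * e₀ := by rw [hc]; group
  have e1 : E * e' * E⁻¹ * e'⁻¹ = c * (E * e₀ * E⁻¹ * e₀⁻¹) * c⁻¹ := by
    rw [he]
    calc E * (c * e₀) * E⁻¹ * (c * e₀)⁻¹ = (E * c) * e₀ * E⁻¹ * e₀⁻¹ * c⁻¹ := by group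
      _ = c * (E * e₀ * E⁻¹ * e₀⁻¹) * c⁻¹ := by rw [hcomm]; group
  have h2 := hS.conj c
  rw [hfix a ha, hfix w hw, ← e1] at h2
  rw [hg.unique h2]
  exact hmem

theorem Setting.root_fix {a u : V} (ha : φ a a = 0) (hu : φ a u = 0) {E : orthGroup Q}
    (hEx : ∀ x, E.1 x = x + φ a x • u + (-(φ u x) - (2 : K)⁻¹ * φ u u * φ a x) • a) {x : V} (hx : φ a x = 0) :
    E.1 x = x - φ u x • a := by
  rw [hEx, hx]; simp [sub_eq_add_neg]

/-- A Siegel element with both vectors in one singular line. -/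
theorem Setting.exists_root [Finite F] {g : orthGroup Q} {a : V} (hc : Cfg φ M g a)
    (hd : finrank F (meet F K g a) + 1 = finrank F K) (hperp : ∀ l ∈ line F K a, φ a (g.1.symm l) = 0) :
    ∃ c : K, (∀ t : F, algebraMap F K t ≠ c) ∧ SiegelIn M a (c • a) := by
  have hnQ := h.nondegQ
  set L := line F K a with hL
  set D := meet F K g a with hD
  let τ : K →ₗ[F] V := g.1.toLinearMap ∘ₗ (LinearMap.toSpanSingleton K V a).restrictScalars F
  have hτ : ∀ k, τ k = g.1 (k • a) := fun k => rfl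
  set Dk := L.comap τ with hDk
  obtain ⟨ky, hky⟩ : ∃ k, k ∉ Dk := by
    obtain ⟨x, hx, hx'⟩ := hc.moved
    obtain ⟨k, rfl⟩ := mem_line.1 hx
    exact ⟨k, hx'⟩
  have hDkfin : finrank F K ≤ finrank F Dk + 1 := by
    have hle : D ≤ Dk.map τ := by
      rintro x ⟨⟨z, hz, rfl⟩, hx⟩
      obtain ⟨k, rfl⟩ := mem_line.1 hz
      exact ⟨k, hx, rfl⟩
    have := (Submodule.finrank_mono hle).trans (Submodule.finrank_map_le τ Dk)
    omega
  have htop : Dk ⊔ F ∙ ky = ⊤ := by
    refine Submodule.eq_top_of_finrank_eq (le_antisymm (Submodule.finrank_le _) ?_)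
    have := Submodule.finrank_lt_finrank_of_lt (lt_of_le_of_ne le_sup_left fun e =>
      hky (e ▸ Submodule.mem_sup_right (Submodule.mem_span_singleton_self ky)) : Dk < Dk ⊔ F ∙ ky)
    omega
  obtain ⟨ε, hεD, hεy⟩ := exists_scalar_perp h.ne_zero hky
  have hε0 : ε ≠ 0 := fun e => by rw [e, zero_mul, map_zero] at hεy; exact zero_ne_one hεy
  set y := g.1 (ky • a) with hy
  have hga : ∀ k : K, g.1 (k • a) - f₀ (ε * k) • y ∈ L := by
    intro k
    obtain ⟨d, hd', z, hz, rfl⟩ := Submodule.mem_sup.1 (htop.ge (Submodule.mem_top : k ∈ ⊤))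
    obtain ⟨t, rfl⟩ := Submodule.mem_span_singleton.1 hz
    have e1 : f₀ (ε * (d + t • ky)) = t := by
      rw [mul_add, map_add, hεD d hd', mul_smul_comm, map_smul, hεy, zero_add, smul_eq_mul, mul_one]
    rw [e1, add_smul, map_add, smul_assoc, g.1.map_smul, ← hy, add_sub_cancel_right]
    exact hd'
  have hay : φ a y = 0 := by
    rw [h.symm, hy]
    refine h.phi_eq_zero fun k => ?_
    rw [polar_comm]
    exact h.perp_iff.2 (hperp _ (smul_mem_line a k)) ky
  have hperpL : ∀ {x l : V}, φ a x = 0 → l ∈ L → polar Q x l = 0 := fun {x l} hx hl => by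
    obtain ⟨k, rfl⟩ := mem_line.1 hl
    rw [h.polar_smul_right, h.symm, hx, mul_zero, map_zero]
  -- the pairing with the line, seen through `g`
  have hpair : ∀ x, φ a x = 0 → φ a (g.1.symm x) = polar Q x y • ε := by
    intro x hx
    by_contra hne
    obtain ⟨j, hj⟩ := exists_scalar h.ne_zero _ (sub_ne_zero.2 hne) (1 : F)
    have h1 : polar Q x (g.1 (j • a)) = f₀ (j * φ a (g.1.symm x)) := by
      conv_lhs => rw [← g.1.apply_symm_apply x]
      rw [polar_isom, h.polar_smul_right, h.symm]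
    have h2 : polar Q x (g.1 (j • a)) = f₀ (ε * j) * polar Q x y := by
      have h3 := hperpL hx (hga j)
      rw [polar_sub_right, sub_eq_zero, polar_smul_r'] at h3
      exact h3
    rw [mul_sub, map_sub, ← h1, h2, mul_smul_comm, map_smul, mul_comm ε j, smul_eq_mul, mul_comm, sub_self] at hj
    exact zero_ne_one hj
  -- the second vector
  obtain ⟨l₀, hl₀, hl₀D⟩ : ∃ l₀ ∈ L, l₀ ∉ D := SetLike.not_le_iff_exists.1 fun hle => by
    have h1 := Submodule.finrank_mono hle
    rw [hL, finrank_line hc.ne] at h1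
    omega
  set U₀ := (LinearMap.ker (φ a) ⊓ LinearMap.ker (φ (g.1.symm l₀))).restrictScalars F with hU₀
  obtain ⟨u, hu, huV⟩ : ∃ u ∈ U₀, g.1 (ε • u) ∉ (line F K a).map g.1.toLinearMap ⊔ L := by
    by_contra hno
    push Not at hno
    set G : V →ₗ[F] V := g.1.toLinearMap ∘ₗ (LinearMap.lsmul K V ε).restrictScalars F
    have hle : U₀.map G ≤ (line F K a).map g.1.toLinearMap ⊔ L := by
      rintro _ ⟨u, hu, rfl⟩
      exact hno u hu
    have h1 := Submodule.finrank_mono hle
    have hinj : Function.Injective G := fun x z hxz => smul_right_injective V hε0 (g.1.injective hxz)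
    rw [← LinearEquiv.finrank_eq (Submodule.equivMapOfInjective _ hinj U₀)] at h1
    have h2 := h.two_le_inf_ker a (g.1.symm l₀)
    have h3 := Submodule.finrank_sup_add_finrank_inf_eq ((line F K a).map g.1.toLinearMap) L
    have h4 : finrank F ((line F K a).map g.1.toLinearMap) = finrank F L := LinearEquiv.finrank_map_eq g.1 L
    have h5 : finrank F L = finrank F K := finrank_line hc.ne
    have h6 : finrank F ↥((line F K a).map g.1.toLinearMap ⊓ L) = finrank F D := rfl
    rw [← hU₀] at h2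
    have h7 : 0 < finrank F D :=
      finrank_pos_iff_exists_ne_zero.2 ⟨⟨a, hc.self_mem_meet⟩, fun e => hc.ne (congrArg Subtype.val e)⟩
    omega
  have hua : φ a u = 0 := hu.1
  have hu0 : φ (g.1.symm l₀) u = 0 := hu.2
  set V' := g.1 (ε • u) with hV'
  obtain ⟨q, hq, hqx, hqa, hqf⟩ := h.exists_conj hc hua
  have hsupL : D ⊔ F ∙ l₀ = L := by
    refine Submodule.eq_of_le_of_finrank_le (sup_le inf_le_right ((Submodule.span_singleton_le_iff_mem _ _).2 hl₀)) ?_
    rw [hL, finrank_line hc.ne]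
    have := Submodule.finrank_lt_finrank_of_lt (lt_of_le_of_ne le_sup_left fun e =>
      hl₀D (e ▸ Submodule.mem_sup_right (Submodule.mem_span_singleton_self l₀)) : D < D ⊔ F ∙ l₀)
    omega
  have hul : ∀ l ∈ L, φ u (g.1.symm l) = 0 := by
    intro l hl
    obtain ⟨d, hd', z, hz, rfl⟩ := Submodule.mem_sup.1 (hsupL.ge hl)
    obtain ⟨t, rfl⟩ := Submodule.mem_span_singleton.1 hz
    obtain ⟨z', hz', hzd⟩ := hd'.1
    obtain ⟨k, rfl⟩ := mem_line.1 hz'
    rw [← hzd, map_add, g.1.symm.map_smul, LinearEquiv.coe_coe, g.1.symm_apply_apply, map_add]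
    simp [LinearMap.map_smul_of_tower, h.symm u a, hua, h.symm u (g.1.symm l₀), hu0]
  have hqL : ∀ l ∈ L, q.1 l = l := fun l hl => by
    rw [hqx, hperp l hl, hul l hl]; simp
  have haV : φ a V' = 0 := by
    rw [h.symm]
    refine h.phi_eq_zero fun k => ?_
    conv_lhs => rw [← g.1.apply_symm_apply (k • a)]
    rw [hV', polar_isom, h.polar_smul_left, hul _ (smul_mem_line a k), mul_zero, map_zero]
  have htwo : ((2 : K)⁻¹) = algebraMap F K (2⁻¹ : F) := by rw [map_inv₀, map_ofNat]
  have hQV : Q V' = 2⁻¹ * f₀ (ε * ε * φ u u) := by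
    rw [hV', apply_quad, h.quad_eq]
    simp [mul_assoc]
  have hqform : ∀ x, φ a x = 0 → ∃ d ∈ L,
      q.1 x = x + polar Q x y • V' - (polar Q V' x + Q V' * polar Q x y) • y + d := by
    intro x hx
    set co : K := -(φ u (g.1.symm x)) - (2 : K)⁻¹ * φ u u * φ a (g.1.symm x) with hco
    refine ⟨g.1 (co • a) - f₀ (ε * co) • y, hga _, ?_⟩
    have e1 : f₀ (ε * co) = -(polar Q V' x + Q V' * polar Q x y) := by
      have h1 : polar Q V' x = f₀ (ε * φ u (g.1.symm x)) := by
        conv_lhs => rw [hV', ← g.1.apply_symm_apply x]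
        rw [polar_isom, h.polar_smul_left]
      have h2 : ε * co = -(ε * φ u (g.1.symm x)) - (2⁻¹ * polar Q x y) • (ε * ε * φ u u) := by
        rw [hco, hpair x hx, htwo, Algebra.smul_def, Algebra.smul_def, map_mul]
        ring
      rw [h1, hQV, h2, map_sub, map_neg, map_smul, smul_eq_mul]
      ring
    have e2 : g.1 (φ a (g.1.symm x) • u) = polar Q x y • V' := by
      rw [hpair x hx, smul_assoc, g.1.map_smul]
    rw [hqx, ← hco, map_add, e2, e1]
    module
  have hyL : y ∉ L := hky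
  have hVy : ∀ t : F, V' - t • y ∉ L := fun t hmem => huV (by
    have e : V' = t • y + (V' - t • y) := by abel
    rw [e]
    exact Submodule.add_mem_sup (Submodule.smul_mem _ _ ⟨_, smul_mem_line a ky, rfl⟩) hmem)
  have hqperp : ∀ x, φ a x = 0 → φ a (q.1 x) = 0 := fun x hx => by
    obtain ⟨d, hd', e⟩ := hqform x hx
    obtain ⟨k, rfl⟩ := mem_line.1 hd'
    rw [e]
    simp [LinearMap.map_smul_of_tower, hx, hay, haV, hc.sing]
  -- the combined element on `a^⊥`
  have helem : ∀ v, φ a v = 0 → ∃ e ∈ M, ∀ x, φ a x = 0 → e.1 x =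
      x - (polar Q x y • φ v V' - (polar Q V' x + Q V' * polar Q x y) • φ v y) • a := by
    intro v hv
    obtain ⟨Ev, hEv, hEvx⟩ := h.root a v hc.sing hv
    obtain ⟨Em, hEm, hEmx⟩ := h.root a (-v) hc.sing (by rw [map_neg, hv, neg_zero])
    refine ⟨Em * (q⁻¹ * Ev * q), mul_mem hEm (mul_mem (mul_mem (inv_mem hq) hEv) hq), fun x hx => ?_⟩
    show Em.1 ((q⁻¹).1 (Ev.1 (q.1 x))) = _
    have hqi : ∀ k : K, (q⁻¹).1 (k • a) = k • a := fun k =>
      q.1.symm_apply_eq.2 (hqL _ (smul_mem_line a k)).symm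
    have hxa : φ a (φ v (q.1 x) • a) = 0 := by simp [hc.sing]
    rw [h.root_fix hc.sing hv hEvx (hqperp x hx), map_sub, hqi,
      show (q⁻¹).1 (q.1 x) = x from q.1.symm_apply_apply x, map_sub,
      h.root_fix hc.sing (by rw [map_neg, hv, neg_zero]) hEmx hx,
      h.root_fix hc.sing (by rw [map_neg, hv, neg_zero]) hEmx hxa]
    have hva : φ v a = 0 := by rw [h.symm, hv]
    obtain ⟨d, hd', e⟩ := hqform x hx
    obtain ⟨k, rfl⟩ := mem_line.1 hd'
    simp only [e, map_neg, LinearMap.neg_apply, map_smul, map_add, map_sub, LinearMap.map_smul_of_tower, hva,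
      smul_zero, smul_eq_mul, mul_zero]
    module
  have hQa : Q a = 0 := h.quad_zero hc.sing
  have hsing : ∀ k : K, Q (k • a) = 0 := fun k => h.quad_zero (by simp [hc.sing])
  have hpa : ∀ (k : K) x, φ a x = 0 → polar Q (k • a) x = 0 := fun k x hx => by
    rw [h.polar_smul_left, hx, mul_zero, map_zero]
  have hpa1 : ∀ x, φ a x = 0 → polar Q a x = 0 := fun x hx => by rw [h.eq, hx, map_zero]
  by_cases hdep : V' ∈ Submodule.span K {a, y}
  · -- `V'` is a multiple of `y` up to the line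
    obtain ⟨μ, κ, hμκ⟩ := Submodule.mem_span_pair.1 hdep
    have hκ : ∀ t : F, algebraMap F K t ≠ κ := fun t ht => hVy t (by
      rw [← hμκ, ← ht, algebraMap_smul, add_sub_cancel_right]
      exact smul_mem_line a μ)
    have hy0 : y ∉ (K ∙ a : Submodule K V) := hyL
    obtain ⟨v, hva, hvy⟩ := h.exists_vec hy0
    have hva' : φ a v = 0 := by rw [h.symm]; exact hva a (Submodule.mem_span_singleton_self a)
    obtain ⟨e', he', he'x⟩ := helem v hva'
    set d : K := κ - algebraMap F K (Q V') with hd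
    have hyd : polar Q (d • a) y = 0 := hpa d y hay
    have hyk : polar Q a (-(κ • y)) = 0 := by
      rw [polar_neg_right, hpa1 _ (by simp [hay]), neg_zero]
    obtain ⟨S₁, hS₁⟩ := exists_isSiegel hnQ (hsing d) hyd
    obtain ⟨S₂, hS₂⟩ := exists_isSiegel hnQ hQa hyk
    obtain ⟨E, hE, hEx⟩ := h.root a v hc.sing hva'
    have hS₁x : ∀ z, φ a z = 0 → S₁.1 z = z - polar Q y z • d • a := fun z hz => by
      rw [hS₁.2.2, hpa d z hz]; simp [sub_eq_add_neg]
    have hS₂x : ∀ z, φ a z = 0 → S₂.1 z = z + polar Q (κ • y) z • a := fun z hz => by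
      rw [hS₂.2.2, hpa1 z hz]; simp
    have hfix : ∀ z, φ a z = 0 → (e' * (S₁ * S₂)⁻¹).1 z = z := by
      intro z hz
      set x := z + (polar Q y z • d - polar Q (κ • y) z • (1 : K)) • a with hx
      have hxa : φ a x = 0 := by simp [hx, hz, hc.sing]
      have hyx : polar Q y x = polar Q y z := by
        rw [hx, polar_add_right, polar_comm _ y (_ • a), hpa _ y hay, add_zero]
      have hkx : polar Q (κ • y) x = polar Q (κ • y) z := by
        rw [hx, polar_add_right, polar_comm _ (κ • y) (_ • a), hpa _ _ (by simp [hay]), add_zero]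
      have hz0 : (S₁ * S₂).1 x = z := by
        show S₁.1 (S₂.1 x) = z
        rw [hS₂x x hxa, map_add, S₁.1.map_smul, hS₁x x hxa, hS₁x a hc.sing, hyx, hkx,
          polar_comm _ y a, hpa1 y hay, zero_smul, sub_zero, hx]
        simp only [sub_smul, smul_assoc, one_smul]
        abel
      have hxz : ((S₁ * S₂)⁻¹).1 z = x := by rw [← hz0]; exact (S₁ * S₂).1.symm_apply_apply x
      show e'.1 (((S₁ * S₂)⁻¹).1 z) = z
      rw [hxz, he'x x hxa, hvy]
      have hV : φ v V' = κ := by
        rw [← hμκ, map_add, map_smul, map_smul, hva a (Submodule.mem_span_singleton_self a), hvy]; simp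
      have hVx : polar Q V' x = polar Q (κ • y) z := by
        rw [← hμκ, polar_add_left, hpa μ x hxa, zero_add, hkx]
      rw [hV, hVx, polar_comm _ x y, hyx, hx, hd]
      simp only [sub_smul, add_smul, smul_assoc, one_smul, mul_smul, algebraMap_smul]
      rw [smul_comm (Q V') (polar Q y z) a]
      module
    have hEL : ∀ k : K, E.1 (k • a) = k • a := fun k => by rw [hEx]; simp [hc.sing, h.symm v a, hva']
    have hEy : E.1 y = y - a := by rw [h.root_fix hc.sing hva' hEx hay, hvy, one_smul]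
    have hEy' : ∀ k : K, E.1 (k • y) = k • y - k • a := fun k => by
      rw [h.root_fix hc.sing hva' hEx (by simp [hay]), map_smul, hvy]; simp
    have hT : IsSiegel (E * S₂ * E⁻¹ * S₂⁻¹) a (κ • a) := by
      have h1 := hS₂.conj E
      rw [show E.1 a = a by simpa using hEL 1, map_neg, hEy'] at h1
      have h2 := h1.mul (IsSiegel.inv' hnQ hS₂)
      rwa [show -(κ • y - κ • a) + - -(κ • y) = κ • a by abel] at h2
    have hS₁a : IsSiegel (E * S₁ * E⁻¹ * S₁⁻¹) (d • a) (-a) := by
      have h1 := hS₁.conj E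
      rw [hEL, hEy] at h1
      have h2 := h1.mul (IsSiegel.inv' hnQ hS₁)
      rwa [show y - a + -y = -a by abel] at h2
    have hsw : IsSiegel (E * S₁ * E⁻¹ * S₁⁻¹) a (d • a) := by
      have hna : Q (-a) = 0 := by rw [QuadraticMap.map_neg, hQa]
      have h1 := IsSiegel.swap hna hS₁a
      have h2 : IsSiegel (E * S₁ * E⁻¹ * S₁⁻¹) ((-1 : F) • a) (-(d • a)) := by
        rwa [neg_one_smul]
      have h3 := h2.of_smul (neg_ne_zero.2 one_ne_zero)
      rwa [neg_one_smul, neg_neg] at h3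
    have hTc : IsSiegel (S₁ * (E * S₂ * E⁻¹ * S₂⁻¹) * S₁⁻¹) a (κ • a) := by
      have h1 := hT.conj S₁
      have hka : φ a (κ • a) = 0 := by simp [hc.sing]
      rw [hS₁x a hc.sing, hS₁x _ hka, polar_comm _ y a, hpa1 y hay, polar_comm _ y (κ • a),
        hpa κ y hay, zero_smul, sub_zero, sub_zero] at h1
      exact h1
    have hS : IsSiegel (E * (S₁ * S₂) * E⁻¹ * (S₁ * S₂)⁻¹) a (d • a + κ • a) := by
      have h1 := hsw.mul hTc
      rwa [show E * S₁ * E⁻¹ * S₁⁻¹ * (S₁ * (E * S₂ * E⁻¹ * S₂⁻¹) * S₁⁻¹) =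
        E * (S₁ * S₂) * E⁻¹ * (S₁ * S₂)⁻¹ by group] at h1
    refine ⟨d + κ, fun t ht => hκ ((t + Q V') * 2⁻¹) ?_, ?_⟩
    · rw [map_mul, map_add, ← htwo, ht, hd]
      field_simp [h.twoK]
      ring
    · rw [add_smul]
      exact h.comm_mem hc.sing hva' hE hEx he' hfix (by simp [hc.sing]) hS
  · obtain ⟨v, hv, hvV⟩ := h.exists_vec hdep
    have hva : φ a v = 0 := by rw [h.symm]; exact hv a (Submodule.subset_span (by simp))
    have hvy : φ v y = 0 := hv y (Submodule.subset_span (by simp))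
    obtain ⟨e', he', he'x⟩ := helem v hva
    have hay' : polar Q a y = 0 := hpa1 y hay
    obtain ⟨e₀, he₀⟩ := exists_isSiegel hnQ hQa hay'
    have he₀x : ∀ z, φ a z = 0 → e₀.1 z = z - polar Q y z • a := fun z hz => by
      rw [he₀.2.2, hpa1 z hz]; simp [sub_eq_add_neg]
    have hfix : ∀ z, φ a z = 0 → (e' * e₀⁻¹).1 z = z := by
      intro z hz
      set x := z + polar Q y z • a with hx
      have hxa : φ a x = 0 := by simp [hx, LinearMap.map_smul_of_tower, hz, hc.sing]
      have hyx : polar Q y x = polar Q y z := by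
        rw [hx, polar_add_right, polar_smul_r', polar_comm _ y a, hay', mul_zero, add_zero]
      have hz0 : e₀.1 x = z := by rw [he₀x x hxa, hyx, hx, add_sub_cancel_right]
      have hxz : (e₀⁻¹).1 z = x := by rw [← hz0]; exact e₀.1.symm_apply_apply x
      show e'.1 ((e₀⁻¹).1 z) = z
      rw [hxz, he'x x hxa, hvV, hvy, polar_comm _ x y, hyx, hx]
      simp
    obtain ⟨c, hcF⟩ : ∃ c : K, ∀ t : F, algebraMap F K t ≠ c := by
      by_contra hall
      push Not at hall
      choose t ht using hall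
      refine hky ?_
      show τ ky ∈ L
      rw [hτ, ← ht ky, algebraMap_smul, g.1.map_smul, hc.fix]
      exact L.smul_mem _ (self_mem_line a)
    have hy0 : y ∉ (K ∙ a : Submodule K V) := hyL
    obtain ⟨w, hw, hwy⟩ := h.exists_vec hy0
    set u' := (-c) • w with hu'
    have hu'a : φ a u' = 0 := by simp [hu', h.symm a w, hw a (Submodule.mem_span_singleton_self a)]
    have hu'y : φ u' y = -c := by simp [hu', hwy]
    obtain ⟨E, hE, hEx⟩ := h.root a u' hc.sing hu'a
    have hEy : E.1 y = y + c • a := by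
      rw [h.root_fix hc.sing hu'a hEx hay, hu'y, neg_smul, sub_neg_eq_add]
    have hEa : E.1 a = a := by rw [hEx]; simp [hc.sing, h.symm u' a, hu'a]
    have hS : IsSiegel (E * e₀ * E⁻¹ * e₀⁻¹) a (c • a) := by
      have h1 := he₀.conj E
      rw [hEa, hEy] at h1
      have h2 := h1.mul (IsSiegel.inv' hnQ he₀)
      rwa [show y + c • a + -y = c • a by abel] at h2
    exact ⟨c, hcF, h.comm_mem hc.sing hu'a hE hEx he' hfix (by simp [hc.sing]) hS⟩

/-- A first configuration. -/
theorem Setting.exists_cfg [Finite F] {g : orthGroup Q} (hg : g ∈ M)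
    (hne : ∃ x, ∃ k : K, g.1 (k • x) ∉ line F K (g.1 x)) : ∃ g' a, Cfg φ M g' a := by
  obtain ⟨a, haa, k₀, hk₀⟩ : ∃ a, φ a a = 0 ∧ ∃ k : K, g.1 (k • a) ∉ line F K (g.1 a) := by
    by_contra hno
    push Not at hno
    obtain ⟨x, k, hk⟩ := hne
    exact hk (h.lines_of_singular g hno x k)
  have ha : a ≠ 0 := by rintro rfl; simp at hk₀
  set z := g.1 a with hz
  have hz0 : z ≠ 0 := fun e => ha (g.1.injective (e.trans (map_zero g.1).symm))
  by_cases hzz : φ z z = 0
  · obtain ⟨e, he, hea, hek⟩ := h.transitive hzz haa hz0 ha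
    refine ⟨e * g, a, mul_mem he hg, ha, haa, hea, k₀ • a, smul_mem_line a k₀, fun hmem => hk₀ ?_⟩
    obtain ⟨l, hl⟩ := mem_line.1 hmem
    refine mem_line.2 ⟨l, e.1.injective ?_⟩
    rw [hek, hea]; exact hl
  set x := g.1 (k₀ • a) with hx
  set x' := x - (φ z x * (φ z z)⁻¹) • z with hx'
  have hzx' : φ z x' = 0 := by simp [hx', hzz]
  obtain ⟨d, hdd, hzd, hxd⟩ : ∃ d, φ d d = 0 ∧ φ z d = 0 ∧ φ d x ≠ 0 := by
    by_contra hall
    push Not at hall
    refine hk₀ (mem_line.2 ⟨φ z x * (φ z z)⁻¹, ?_⟩)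
    have hx'0 : x' = 0 := h.nondeg x' fun w => by
      set w' := w - (φ z w * (φ z z)⁻¹) • z with hw'
      have hzw : φ z w' = 0 := by simp [hw', hzz]
      have h1 : φ x' w = φ x' w' := by
        rw [hw', map_sub (φ x'), map_smul (φ x'), h.symm x' z, hzx', smul_zero, sub_zero]
      rw [h1]
      refine Submodule.span_induction (p := fun v _ => φ x' v = 0) ?_ ?_ ?_ ?_ (h.mem_span_singular hzz hzw)
      · intro d hd
        rw [hx', h.symm, map_sub, map_smul, h.symm d z, hd.2, hall d hd.1 hd.2, smul_zero, sub_zero]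
      · simp
      · intro p q _ _ hp hq; rw [map_add, hp, hq, add_zero]
      · intro c p _ hp; rw [map_smul, hp, smul_zero]
    rw [hx', sub_eq_zero] at hx'0
    exact hx'0.symm
  have hd0 : d ≠ 0 := fun e => hxd (by simp [e])
  obtain ⟨b, hdb, hbb⟩ := h.exists_pair hdd hd0
  -- vectors orthogonal to `z`, `d`, `b`
  set S := LinearMap.ker (φ z) ⊓ LinearMap.ker (φ d) ⊓ LinearMap.ker (φ b) with hS
  have hS1 : 1 ≤ finrank K S := by
    have h1 := inf_ker_bound ⊤ (φ z)
    have h2 := inf_ker_bound (LinearMap.ker (φ z)) (φ d)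
    have h3 := inf_ker_bound (LinearMap.ker (φ z) ⊓ LinearMap.ker (φ d)) (φ b)
    rw [top_inf_eq, finrank_top] at h1
    have := h.dim
    rw [hS]
    omega
  set P := (line F K a).map g.1.toLinearMap with hP
  suffices H : ∃ t ∈ M, t.1 z = z ∧ ∃ p ∈ P, t.1 p ∉ P by
    obtain ⟨t, ht, htz, p, hp, htp⟩ := H
    refine ⟨g⁻¹ * t * g, a, mul_mem (mul_mem (inv_mem hg) ht) hg, ha, haa, ?_, ?_⟩
    · show g.1.symm (t.1 z) = a
      rw [htz, hz, g.1.symm_apply_apply]
    · obtain ⟨y, hy, rfl⟩ := hp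
      refine ⟨y, hy, fun hmem => htp ⟨_, hmem, ?_⟩⟩
      show g.1 (g.1.symm (t.1 (g.1 y))) = t.1 (g.1 y)
      exact g.1.apply_symm_apply _
  by_contra hno
  push Not at hno
  set P₀ := P ⊓ (LinearMap.ker (φ z)).restrictScalars F with hP₀
  have hzP : z ∈ P := ⟨a, self_mem_line a, rfl⟩
  have hP₀lt : finrank F P₀ < finrank F K := by
    have h1 : finrank F P = finrank F K := (LinearEquiv.finrank_map_eq g.1 _).trans (finrank_line ha)
    rw [← h1]
    exact Submodule.finrank_lt_finrank_of_lt (lt_of_le_of_ne inf_le_left fun e => hzz (e.ge hzP).2)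
  have hmaps : (S.restrictScalars F).map ((LinearMap.lsmul K V (φ d x)).restrictScalars F) ⊔ line F K d ≤
      P₀ ⊔ line F K d := by
    refine sup_le ?_ le_sup_right
    rintro _ ⟨v, hv, rfl⟩
    have hdv : φ d v = 0 := hv.1.2
    have hzv : φ z v = 0 := hv.1.1
    obtain ⟨t, ht, htx⟩ := h.root d v hdd hdv
    have htz : t.1 z = z := by rw [htx, h.symm d z, hzd, h.symm v z, hzv]; simp
    have hxP : x ∈ P := ⟨_, smul_mem_line a k₀, rfl⟩
    have hmem := hno t ht htz x hxP
    set co : K := -(φ v x) - (2 : K)⁻¹ * φ v v * φ d x with hco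
    have h1 : φ d x • v + co • d ∈ P₀ := by
      refine ⟨?_, ?_⟩
      · have := P.sub_mem hmem hxP
        rwa [htx, ← hco, add_assoc, add_sub_cancel_left] at this
      · show φ z _ = 0
        simp [hzv, hzd]
    refine Submodule.mem_sup.2 ⟨_, h1, _, smul_mem_line d (-co), ?_⟩
    simp only [LinearMap.coe_restrictScalars, LinearMap.lsmul_apply]
    module
  have h1 := Submodule.finrank_mono hmaps
  have h2 := Submodule.finrank_add_le_finrank_add_finrank P₀ (line F K d)
  have h3 := Submodule.finrank_sup_add_finrank_inf_eq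
    ((S.restrictScalars F).map ((LinearMap.lsmul K V (φ d x)).restrictScalars F)) (line F K d)
  have h4 : (S.restrictScalars F).map ((LinearMap.lsmul K V (φ d x)).restrictScalars F) ⊓ line F K d = ⊥ := by
    refine (Submodule.eq_bot_iff _).2 ?_
    rintro _ ⟨⟨v, hv, rfl⟩, hmem⟩
    obtain ⟨k, hk⟩ := mem_line.1 hmem
    have e := congrArg (φ b) hk
    simp [h.symm b d, hdb, show φ b v = 0 from hv.2] at e
    rw [← hk, e, zero_smul]
  rw [h4, finrank_bot] at h3
  have hinj : Function.Injective ((LinearMap.lsmul K V (φ d x)).restrictScalars F) := fun p q hpq =>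
    smul_right_injective V hxd hpq
  have h5 : finrank F (S.restrictScalars F) = finrank F K * finrank K S := (finrank_mul_finrank F K ↥S).symm
  have h6 := LinearEquiv.finrank_eq (Submodule.equivMapOfInjective _ hinj (S.restrictScalars F))
  have h7 : finrank F K * 1 ≤ finrank F K * finrank K S := Nat.mul_le_mul_left _ hS1
  omega

end CfsgLib.Classical.FieldExtOrth
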